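import Cfsg.Agent.TwoGen.Count

/-!
Thompson's theorem: a finite group all of whose two-generated subgroups are soluble is soluble.
-/

set_option autoImplicit false
set_option linter.unusedSectionVars false
set_option linter.style.haveILetI false

namespace Cfsg.Lib.TwoGen

open Subgroup

universe u

theorem isSolvable_closure_pair_map {G : Type*} {H : Type*} [Group G] [Group H] (f : G →* H)
    (a b : G) [Group.IsSolvable (closure ({a, b} : Set G))] :
    Group.IsSolvable (closure ({f a, f b} : Set H)) := by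
  have h : closure ({f a, f b} : Set H) = (closure ({a, b} : Set G)).map f := by
    rw [MonoidHom.map_closure, Set.image_pair]
  rw [h]
  exact Group.isSolvable_of_surjective (f.subgroupMap_surjective _)

theorem isSolvable_closure_pair_of_injective {G : Type*} {H : Type*} [Group G] [Group H]
    {f : G →* H} (hf : Function.Injective f) (a b : G)
    [Group.IsSolvable (closure ({f a, f b} : Set H))] :
    Group.IsSolvable (closure ({a, b} : Set G)) := by
  have h : (closure ({a, b} : Set G)).map f = closure ({f a, f b} : Set H) := by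
    rw [MonoidHom.map_closure, Set.image_pair]
  refine Group.isSolvable_of_isSolvable_injective (f :=
    (MulEquiv.subgroupCongr h).toMonoidHom.comp (f.subgroupMap (closure ({a, b} : Set G))))
    fun x y hxy => Subtype.ext (hf ?_)
  exact congrArg Subtype.val hxy

theorem isSolvable_of_normal {G : Type*} [Group G] (N : Subgroup G) [N.Normal]
    [Group.IsSolvable N] [Group.IsSolvable (G ⧸ N)] : Group.IsSolvable G :=
  Group.isSolvable_of_ker_le_range N.subtype (QuotientGroup.mk' N)
    (by rw [QuotientGroup.ker_mk', range_subtype])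

theorem card_quotient_lt {G : Type*} [Group G] [Finite G] {N : Subgroup G} [N.Normal]
    (hN : N ≠ ⊥) : Nat.card (G ⧸ N) < Nat.card G := by
  rw [← Subgroup.index_eq_card, ← Subgroup.index_mul_card N]
  exact lt_mul_of_one_lt_right (Nat.pos_of_ne_zero Subgroup.index_ne_zero_of_finite)
    ((Subgroup.one_lt_card_iff_ne_bot N).2 hN)

theorem card_lt_of_ne_top {G : Type*} [Group G] [Finite G] {H : Subgroup G} (hH : H ≠ ⊤) :
    Nat.card H < Nat.card G :=
  lt_of_le_of_ne (card_le_card_group H) fun h => hH (eq_top_of_card_eq H h)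

theorem isSolvable_of_pairs_aux : ∀ (n : ℕ) (G : Type u) [Group G] [Finite G], Nat.card G = n →
    (∀ a b : G, Group.IsSolvable (closure ({a, b} : Set G))) → Group.IsSolvable G := by
  intro n
  induction n using Nat.strong_induction_on with
  | _ n ih =>
  intro G _ _ hn h
  by_contra hns
  haveI : Nontrivial G := by
    by_contra hs
    haveI := not_nontrivial_iff_subsingleton.1 hs
    exact hns inferInstance
  have hprop : ∀ H : Subgroup G, H ≠ ⊤ → Group.IsSolvable H := fun H hH =>
    ih _ (hn ▸ card_lt_of_ne_top hH) H rfl fun a b => by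
      haveI := h (a : G) (b : G)
      exact isSolvable_closure_pair_of_injective (f := H.subtype) H.subtype_injective a b
  have hsimple : IsSimpleGroup G := by
    refine ⟨fun N hN => ?_⟩
    by_contra hcon
    push Not at hcon
    obtain ⟨hN0, hN1⟩ := hcon
    haveI := hN
    haveI := hprop N hN1
    haveI : Group.IsSolvable (G ⧸ N) := ih _ (hn ▸ card_quotient_lt hN0) (G ⧸ N) rfl fun a b => by
      obtain ⟨x, rfl⟩ := QuotientGroup.mk'_surjective N a
      obtain ⟨y, rfl⟩ := QuotientGroup.mk'_surjective N b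
      haveI := h x y
      exact isSolvable_closure_pair_map (QuotientGroup.mk' N) x y
    exact hns (isSolvable_of_normal N)
  refine false_of_minTwo (G := G) ⟨hsimple, hns, hprop, fun a b hab => hns ?_⟩
  haveI := h a b
  rw [hab] at this
  exact Group.isSolvable_of_surjective (f := (⊤ : Subgroup G).subtype)
    fun g => ⟨⟨g, mem_top g⟩, rfl⟩

/-- **Thompson**: a finite group in which every two elements generate a soluble subgroup is
soluble. -/
theorem isSolvable_of_pairs (G : Type u) [Group G] [Finite G]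
    (h : ∀ a b : G, Group.IsSolvable (closure ({a, b} : Set G))) : Group.IsSolvable G :=
  isSolvable_of_pairs_aux _ G rfl h

/-- A subgroup of conjugates of a self-normalizing TI subgroup. -/
theorem ncard_conjugates {G : Type u} [Group G] [Finite G] {M : Subgroup G}
    (hTI : ∀ t : G, ∀ x ∈ M, x ≠ 1 → t * x * t⁻¹ ∈ M → t ∈ M) :
    {g : G | g ≠ 1 ∧ ∃ t : G, t⁻¹ * g * t ∈ M}.ncard = M.index * (Nat.card M - 1) := by
  have e : (G ⧸ M) × {m : M // m ≠ 1} ≃ {g : G | g ≠ 1 ∧ ∃ t : G, t⁻¹ * g * t ∈ M} := by
    refine Equiv.ofBijective (fun z => ⟨z.1.out * (z.2.1 : G) * (z.1.out)⁻¹, ?_, z.1.out, ?_⟩) ⟨?_, ?_⟩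
    · intro h
      exact z.2.2 (Subtype.ext (conj_eq_one_iff.1 h))
    · simpa [mul_assoc] using z.2.1.2
    · rintro ⟨q, m, hm⟩ ⟨q', m', hm'⟩ h
      have h1 : q.out * (m : G) * q.out⁻¹ = q'.out * (m' : G) * q'.out⁻¹ := congrArg Subtype.val h
      have h2 : q'.out⁻¹ * q.out ∈ M := by
        refine hTI _ (m : G) m.2 (fun h0 => hm (Subtype.ext h0)) ?_
        rw [show q'.out⁻¹ * q.out * (m : G) * (q'.out⁻¹ * q.out)⁻¹ =
          q'.out⁻¹ * (q.out * (m : G) * q.out⁻¹) * q'.out by group, h1]
        simpa [mul_assoc] using m'.2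
      have h3 : q' = q := by
        rw [← q'.out_eq', ← q.out_eq']
        exact QuotientGroup.eq.2 h2
      subst h3
      have h4 : (m : G) = m' := by simpa using h1
      simp only [Prod.mk.injEq, Subtype.mk.injEq, true_and]
      exact Subtype.ext h4
    · rintro ⟨g, hg, t, ht⟩
      set q : G ⧸ M := QuotientGroup.mk t with hq
      have hs : q.out⁻¹ * t ∈ M := QuotientGroup.eq.1 (q.out_eq'.trans hq)
      have hm : q.out⁻¹ * g * q.out ∈ M := by
        have h1 := mul_mem (mul_mem hs ht) (inv_mem hs)
        simpa [mul_assoc] using h1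
      refine ⟨(q, ⟨⟨_, hm⟩, fun h => hg ?_⟩), Subtype.ext ?_⟩
      · have h1 : q.out⁻¹ * g * q.out = 1 := congrArg Subtype.val h
        have h2 := congrArg (fun z => q.out * z * q.out⁻¹) h1
        simpa [mul_assoc] using h2
      · show q.out * (q.out⁻¹ * g * q.out) * q.out⁻¹ = g
        group
  rw [← Nat.card_coe_set_eq, ← Nat.card_congr e, Nat.card_prod, ← Subgroup.index_eq_card]
  congr 1
  classical
  haveI := Fintype.ofFinite M
  rw [Nat.card_eq_fintype_card, Nat.card_eq_fintype_card, Fintype.card_subtype_compl,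
    Fintype.card_subtype_eq]

theorem isSolvable_of_solubilizers_aux : ∀ (n : ℕ) (G : Type u) [Group G] [Finite G],
    Nat.card G = n →
    (∀ x : G, ∃ H : Subgroup G,
      (H : Set G) = {y : G | Group.IsSolvable ↥(closure ({x, y} : Set G))}) →
    Group.IsSolvable G := by
  intro n
  induction n using Nat.strong_induction_on with
  | _ n ih =>
  intro G _ _ hn h
  choose S hS using h
  have hmem : ∀ x y, y ∈ S x ↔ Group.IsSolvable ↥(closure ({x, y} : Set G)) := fun x y => by
    rw [← SetLike.mem_coe, hS]; rfl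
  by_contra hns
  have hprop : ∀ H : Subgroup G, H ≠ ⊤ → Group.IsSolvable H := fun H hH =>
    ih _ (hn ▸ card_lt_of_ne_top hH) H rfl fun x => ⟨(S (x : G)).subgroupOf H, Set.ext fun y => by
      show y ∈ (S (x : G)).subgroupOf H ↔ Group.IsSolvable ↥(closure ({x, y} : Set H))
      rw [mem_subgroupOf, hmem]
      constructor
      · intro hy
        haveI : Group.IsSolvable ↥(closure ({H.subtype x, H.subtype y} : Set G)) := hy
        exact isSolvable_closure_pair_of_injective (f := H.subtype) H.subtype_injective x y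
      · intro hy
        haveI := hy
        exact isSolvable_closure_pair_map H.subtype x y⟩
  have hsimple : ∀ N : Subgroup G, N.Normal → N = ⊥ ∨ N = ⊤ := by
    intro N hN
    by_contra hcon
    push Not at hcon
    haveI := hprop N hcon.2
    haveI : Group.IsSolvable (G ⧸ N) := ih _ (hn ▸ card_quotient_lt hcon.1) (G ⧸ N) rfl fun a => by
      obtain ⟨x, rfl⟩ := QuotientGroup.mk'_surjective N a
      refine ⟨(S x).map (QuotientGroup.mk' N), Set.ext fun b => ⟨?_, fun hb => ?_⟩⟩
      · rintro ⟨y, hy, rfl⟩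
        haveI := (hmem x y).1 hy
        exact isSolvable_closure_pair_map (QuotientGroup.mk' N) x y
      · obtain ⟨y, rfl⟩ := QuotientGroup.mk'_surjective N b
        refine ⟨y, (hmem x y).2 ?_, rfl⟩
        haveI : Group.IsSolvable
            ↥(closure ({QuotientGroup.mk' N x, QuotientGroup.mk' N y} : Set (G ⧸ N))) := hb
        set K := closure ({x, y} : Set G) with hK
        haveI : Group.IsSolvable ↥(K.map (QuotientGroup.mk' N)) := by
          rw [hK, MonoidHom.map_closure, Set.image_pair]; infer_instance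
        haveI : Group.IsSolvable ↥(N.subgroupOf K) :=
          Group.isSolvable_of_isSolvable_injective (f :=
            (K.subtype.comp (N.subgroupOf K).subtype).codRestrict N fun z => z.2)
            fun a b hab => Subtype.ext (Subtype.ext (congrArg (fun z : N => (z : G)) hab))
        exact Group.isSolvable_of_ker_le_range (N.subgroupOf K).subtype
          ((QuotientGroup.mk' N).subgroupMap K) (by
            rw [range_subtype]
            intro z hz
            have h1 : QuotientGroup.mk' N (z : G) = 1 :=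
              congrArg Subtype.val (MonoidHom.mem_ker.1 hz)
            exact mem_subgroupOf.2 ((QuotientGroup.eq_one_iff _).1 h1))
    exact hns (isSolvable_of_normal N)
  have hconj : ∀ g x y : G, y ∈ S x → g * y * g⁻¹ ∈ S (g * x * g⁻¹) := fun g x y hy => by
    haveI := (hmem x y).1 hy
    exact (hmem _ _).2 (isSolvable_closure_pair_map (MulAut.conj g).toMonoidHom x y)
  have hsymm : ∀ x y, y ∈ S x → x ∈ S y := fun x y hy => by
    rw [hmem, Set.pair_comm]; exact (hmem x y).1 hy
  haveI hWn : (⨅ x, S x).Normal := ⟨fun w hw g => mem_iInf.2 fun x => by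
    have h1 := hconj g (g⁻¹ * x * g) w (mem_iInf.1 hw _)
    simpa [mul_assoc] using h1⟩
  rcases hsimple _ hWn with hW | hW
  swap
  · exact hns (isSolvable_of_pairs G fun a b => (hmem a b).1 (mem_iInf.1 (hW ▸ mem_top b) a))
  -- every nontrivial element lies in exactly one maximal subgroup
  have hne : ∀ x : G, x ≠ 1 → S x ≠ ⊤ := fun x hx hT => hx (by
    rw [← mem_bot (G := G), ← hW, mem_iInf]
    exact fun y => hsymm x y (hT ▸ mem_top y))
  have hcont : ∀ (K : Subgroup G) (x : G), K ≠ ⊤ → x ∈ K → K ≤ S x := fun K x hK hx y hy => by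
    haveI := hprop K hK
    rw [hmem]
    exact Cfsg.Lib.Coprime.isSolvable_of_le
      ((closure_le K).2 (by rintro z (rfl | rfl) <;> assumption)) inferInstance
  have hself : ∀ x, x ∈ S x := fun x => by
    rw [hmem, Set.pair_eq_singleton, ← zpowers_eq_closure]; infer_instance
  have huniq : ∀ x y : G, x ≠ 1 → y ≠ 1 → y ∈ S x → S x = S y := fun x y hx hy hyx => by
    have h1 : S x ≤ S y := hcont (S x) y (hne x hx) hyx
    exact le_antisymm h1 (hcont (S y) x (hne y hy) (h1 (hself x)))
  have hnormal : ∀ x : G, x ≠ 1 → ∀ t, (∀ y ∈ S x, t * y * t⁻¹ ∈ S x) → t ∈ S x := by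
    intro x hx t ht
    have htn : t ∈ normalizer (S x : Set G) := by
      haveI : Finite (S x) := inferInstance
      exact mem_normalizer_iff.2 fun y => ⟨ht y, fun hy => by
        have hmap : (S x).map (MulAut.conj t).toMonoidHom = S x :=
          Subgroup.eq_of_le_of_card_ge (by rintro _ ⟨z, hz, rfl⟩; exact ht z hz)
            (le_of_eq (Subgroup.card_map_of_injective (MulAut.conj t).injective).symm)
        rw [← hmap] at hy
        obtain ⟨z, hz, hzy⟩ := hy
        exact (MulAut.conj t).injective hzy ▸ hz⟩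
    refine hcont (normalizer (S x : Set G)) x (fun hT => ?_) (le_normalizer (hself x)) htn
    rcases hsimple _ (normalizer_eq_top_iff.1 hT) with h0 | h0
    · exact hx (mem_bot.1 (h0 ▸ hself x))
    · exact hne x hx h0
  have hTI : ∀ a : G, a ≠ 1 → ∀ t : G, ∀ x ∈ S a, x ≠ 1 → t * x * t⁻¹ ∈ S a → t ∈ S a := by
    intro a ha t x hxa hx htx
    have h1 : S a = S x := huniq a x ha hx hxa
    have h2 : S a = S (t * x * t⁻¹) :=
      huniq a _ ha (fun h => hx (conj_eq_one_iff.1 h)) htx
    refine hnormal a ha t fun y hy => ?_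
    rw [h2]
    exact hconj t x y (h1 ▸ hy)
  haveI : Nontrivial G := by
    by_contra hs
    haveI := not_nontrivial_iff_subsingleton.1 hs
    exact hns inferInstance
  obtain ⟨a, ha⟩ := exists_ne (1 : G)
  set A := {g : G | g ≠ 1 ∧ ∃ t : G, t⁻¹ * g * t ∈ S a} with hA
  have hAc := ncard_conjugates (hTI a ha)
  have hlarge : ∀ b : G, b ≠ 1 → 2 * ((S b).index * (Nat.card (S b) - 1)) ≥ Nat.card G := by
    intro b hb
    have h2 : 2 ≤ Nat.card (S b) :=
      (one_lt_card_iff_ne_bot _).2 fun h => hb (mem_bot.1 (h ▸ hself b))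
    rw [← (S b).index_mul_card, mul_left_comm]
    exact Nat.mul_le_mul_left _ (by omega)
  have hG1 : ({1}ᶜ : Set G).ncard = Nat.card G - 1 := by
    rw [Set.ncard_compl, Set.ncard_singleton]
  have hG2 : 1 ≤ Nat.card G := Nat.card_pos
  by_cases hall : ∀ b : G, b ≠ 1 → ∃ t : G, t⁻¹ * b * t ∈ S a
  · have hA1 : A = {1}ᶜ := Set.ext fun g => ⟨fun hg => hg.1, fun hg => ⟨hg, hall g hg⟩⟩
    rw [← hA, hA1, hG1] at hAc
    have h3 : 1 < (S a).index := by
      have h0 : (S a).index ≠ 0 := index_ne_zero_of_finite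
      have h1 : (S a).index ≠ 1 := fun h => hne a ha (index_eq_one.1 h)
      omega
    have h4 := (S a).index_mul_card
    have h5 : (S a).index * (Nat.card (S a) - 1) + (S a).index = Nat.card G := by
      have hc : 0 < Nat.card (S a) := Nat.card_pos
      rw [← Nat.mul_succ, show (Nat.card (S a) - 1).succ = Nat.card (S a) by omega, h4]
    omega
  · push Not at hall
    obtain ⟨b, hb, hbA⟩ := hall
    set B := {g : G | g ≠ 1 ∧ ∃ t : G, t⁻¹ * g * t ∈ S b} with hB
    have hBc := ncard_conjugates (hTI b hb)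
    have hdis : Disjoint A B := Set.disjoint_left.2 fun g hgA hgB => by
      obtain ⟨hg1, t, ht⟩ := hgA
      obtain ⟨-, s, hs⟩ := hgB
      have h1 : t⁻¹ * g * t ≠ 1 := fun h => hg1 (by
        have h2 := congrArg (fun z => t * z * t⁻¹) h
        simpa [mul_assoc] using h2)
      have h1' : s⁻¹ * g * s ≠ 1 := fun h => hg1 (by
        have h2 := congrArg (fun z => s * z * s⁻¹) h
        simpa [mul_assoc] using h2)
      have hSa := huniq a _ ha h1 ht
      have hSb := huniq b _ hb h1' hs
      refine hbA (s * t⁻¹)⁻¹ ?_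
      rw [hSa]
      have hbb : b ∈ S (s⁻¹ * g * s) := hSb ▸ hself b
      have h3 := hconj (t⁻¹ * s) _ b hbb
      rw [show t⁻¹ * s * (s⁻¹ * g * s) * (t⁻¹ * s)⁻¹ = t⁻¹ * g * t by group] at h3
      have h4 : (s⁻¹ * t)⁻¹ * b * (s⁻¹ * t) = t⁻¹ * s * b * (t⁻¹ * s)⁻¹ := by group
      exact absurd ((hSa ▸ (h4 ▸ h3)) : (s⁻¹ * t)⁻¹ * b * (s⁻¹ * t) ∈ S a) (hbA _)
    have hsub : A ∪ B ⊆ {1}ᶜ := Set.union_subset (fun g hg => hg.1) (fun g hg => hg.1)
    have h1 := Set.ncard_le_ncard hsub
    rw [Set.ncard_union_eq hdis, hG1, hA, hB, hAc, hBc] at h1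
    have := hlarge a ha
    have := hlarge b hb
    omega

end Cfsg.Lib.TwoGen
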