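import Cfsg.Agent.TwoGen.Hyp
import Cfsg.Agent.PLocal.ActionStable
import Cfsg.Agent.Components.ZJ.FullCenter
import Cfsg.Agent.S0118
import Cfsg.Agent.S0058

/-!
The centre of the Thompson subgroup of a Sylow `p`-subgroup, `p ≥ 5`, in a minimal simple group
in which no two elements generate: it is strongly closed and a trivial intersection set, and a
maximal subgroup outside its normalizer has cyclic-type `p`-part.
-/

set_option autoImplicit false
set_option linter.unusedSectionVars false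
set_option linter.style.haveILetI false

namespace Cfsg.Lib.TwoGen

open Subgroup Cfsg.Lib.Components Cfsg.Lib.Coprime

universe u

variable {G : Type u} [Group G] [Finite G] {p : ℕ} [hp : Fact p.Prime]

/-- `Z(J(P))`. -/
abbrev zj (P : Sylow p G) : Subgroup G := Cfsg.centerThompsonOf p (P : Subgroup G)

/-- The normalizer of `Z(J(P))`. -/
abbrev nzj (P : Sylow p G) : Subgroup G := normalizer (zj P : Set G)

theorem zj_le (P : Sylow p G) : zj P ≤ (P : Subgroup G) := Cfsg.Lib.ZJ.centerThompson_le P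

theorem sylow_le_nzj (P : Sylow p G) : (P : Subgroup G) ≤ nzj P :=
  Cfsg.Lib.ZJ.sylow_le_normalizer_centerThompson P

theorem isPGroup_zj (P : Sylow p G) : IsPGroup p (zj P) := P.isPGroup'.to_le (zj_le P)

theorem zj_comm (P : Sylow p G) {a b : G} (ha : a ∈ zj P) (hb : b ∈ zj P) : a * b = b * a :=
  mem_centralizer_iff.1 hb.2 a ha.1

theorem zj_ne_bot (hpG : p ∣ Nat.card G) (P : Sylow p G) : zj P ≠ ⊥ := by
  have hP : (P : Subgroup G) ≠ ⊥ := P.ne_bot_of_dvd_card hpG
  have hJp : IsPGroup p (Cfsg.thompsonSubgroupOf p (P : Subgroup G)) :=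
    P.isPGroup'.to_le (Cfsg.Lib.Thompson.thompsonSubgroupOf_le _)
  haveI : Nontrivial (Cfsg.thompsonSubgroupOf p (P : Subgroup G)) :=
    (nontrivial_iff_ne_bot _).2 (Cfsg.Lib.Thompson.thompsonSubgroupOf_ne_bot P.isPGroup' hP)
  haveI := hJp.center_nontrivial
  obtain ⟨⟨⟨x, hxJ⟩, hxc⟩, hx1⟩ := exists_ne (1 : center (Cfsg.thompsonSubgroupOf p (P : Subgroup G)))
  intro h
  have hx : x ∈ zj P := ⟨hxJ, mem_centralizer_iff.2 fun y hy =>
    congrArg Subtype.val (mem_center_iff.1 hxc ⟨y, hy⟩)⟩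
  rw [h, mem_bot] at hx
  exact hx1 (Subtype.ext (Subtype.ext hx))

theorem exists_mem_zj_orderOf_eq (hpG : p ∣ Nat.card G) (P : Sylow p G) :
    ∃ e ∈ zj P, orderOf e = p := by
  obtain ⟨n, hn⟩ := IsPGroup.iff_card.1 (isPGroup_zj P)
  have hn0 : n ≠ 0 := fun h => zj_ne_bot hpG P (by
    rw [h, pow_zero] at hn; exact Subgroup.eq_bot_of_card_eq _ hn)
  obtain ⟨⟨e, he⟩, heo⟩ := exists_prime_orderOf_dvd_card' (G := zj P) p (hn ▸ dvd_pow_self p hn0)
  exact ⟨e, he, by rwa [Subgroup.orderOf_mk] at heo⟩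

theorem zj_smul (g : G) (P : Sylow p G) : zj (g • P) = conjMap g (zj P) := by
  have h : ((g • P : Sylow p G) : Subgroup G) = conjMap g (P : Subgroup G) := rfl
  rw [zj, h]
  exact (Cfsg.Lib.ZJ.centerThompsonOf_map_injOn
    (fun a _ b _ h => (MulAut.conj g).injective h)).symm

theorem nzj_smul (g : G) (P : Sylow p G) : nzj (g • P) = conjMap g (nzj P) := by
  rw [nzj, zj_smul, normalizer_conjMap]

theorem conj_mem_zj_smul {g x : G} {P : Sylow p G} (hx : x ∈ zj P) :
    g * x * g⁻¹ ∈ zj (g • P) := by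
  rw [zj_smul]; exact ⟨x, hx, rfl⟩

theorem card_zj (P Q : Sylow p G) : Nat.card (zj P) = Nat.card (zj Q) := by
  obtain ⟨g, rfl⟩ := MulAction.exists_smul_eq G P Q
  rw [zj_smul, card_conjMap]

theorem zj_eq_of_le {P Q : Sylow p G} (h : zj P ≤ zj Q) : zj P = zj Q :=
  Subgroup.eq_of_le_of_card_ge h (card_zj Q P).le

theorem isPGroup_zpowers {x : G} (hx : orderOf x = p) : IsPGroup p (zpowers x) :=
  IsPGroup.of_card (n := 1) (by rw [Nat.card_zpowers, hx, pow_one])

theorem ne_one_of_orderOf {x : G} (hx : orderOf x = p) : x ≠ 1 := fun h => by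
  rw [h, orderOf_one] at hx
  exact hp.out.ne_one hx.symm

/-- A normal `p`-subgroup of a subgroup lies in each of its Sylow `p`-subgroups. -/
theorem map_pCore_le_sylow {H : Subgroup G} (S : Sylow p H) :
    (pCore p H).map H.subtype ≤ (S : Subgroup H).map H.subtype :=
  Subgroup.map_mono (Cfsg.Lib.Coprime.pCore_le_sylow p S)

namespace MinTwo

variable (hG : MinTwo G) (hp5 : 5 ≤ p) (hpG : p ∣ Nat.card G)

include hG hp5

theorem noSection : Cfsg.Lib.ActionStable.NoSection p G := by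
  intro K f hf
  have hperf : commutator (Matrix.SpecialLinearGroup (Fin 2) (ZMod p)) = ⊤ :=
    Cfsg.Lib.Known.sl2_commutator_eq_top (ZMod p) (by rw [ZMod.card]; omega)
  have hne : (-1 : Matrix.SpecialLinearGroup (Fin 2) (ZMod p)) ≠ 1 := by
    intro h
    have h1 := congrArg (fun A : Matrix.SpecialLinearGroup (Fin 2) (ZMod p) =>
      (A : Matrix (Fin 2) (Fin 2) (ZMod p)) 0 0) h
    simp at h1
    have h2 : ((2 : ℕ) : ZMod p) = 0 := by
      have : (2 : ZMod p) = 1 - -1 := by ring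
      rw [Nat.cast_ofNat, this, h1, sub_self]
    rw [ZMod.natCast_eq_zero_iff] at h2
    have := Nat.le_of_dvd two_pos h2
    omega
  haveI : Nontrivial (Matrix.SpecialLinearGroup (Fin 2) (ZMod p)) := ⟨-1, 1, hne⟩
  by_cases hK : K = ⊤
  · subst hK
    set φ := f.comp (topEquiv (G := G)).symm.toMonoidHom with hφ
    have hs : Function.Surjective φ := hf.comp (topEquiv (G := G)).symm.surjective
    rcases hG.normal_eq φ.normal_ker with h | h
    · obtain ⟨g, hg⟩ := hs (-1)
      have hgc : g ∈ center G := mem_center_iff.2 fun a => (φ.ker_eq_bot_iff.1 h) (by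
        rw [map_mul, map_mul, hg]
        ext1
        simp)
      rw [hG.center_eq_bot, mem_bot] at hgc
      rw [hgc, map_one] at hg
      exact hne hg.symm
    · obtain ⟨g, hg⟩ := hs (-1)
      rw [show φ g = 1 from MonoidHom.mem_ker.1 (h ▸ mem_top g)] at hg
      exact hne hg.symm
  · haveI := hG.proper K hK
    haveI : Group.IsSolvable (Matrix.SpecialLinearGroup (Fin 2) (ZMod p)) :=
      Group.isSolvable_of_surjective hf
    exact (Group.IsSolvable.commutator_lt_top_of_nontrivial _).ne hperf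

theorem hfree : ¬ ∃ (H K : Subgroup G) (hK : (K.subgroupOf H).Normal),
    Nonempty ((H ⧸ K.subgroupOf H) ≃* Matrix.SpecialLinearGroup (Fin 2) (ZMod p)) := by
  rintro ⟨H, K, hK, ⟨e⟩⟩
  exact hG.noSection hp5 H (e.toMonoidHom.comp (QuotientGroup.mk' (K.subgroupOf H)))
    (e.surjective.comp (QuotientGroup.mk'_surjective _))

/-- `Z(J(P))` is strongly closed. -/
theorem mem_zj {P Q : Sylow p G} {a : G} (ha : a ∈ zj P) (haQ : a ∈ (Q : Subgroup G)) :
    a ∈ zj Q := by
  obtain ⟨g, rfl⟩ := MulAction.exists_smul_eq G P Q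
  have hgP : g⁻¹ * a * g ∈ (P : Subgroup G) := mem_conjMap.1 haQ
  obtain ⟨n, hn, hna⟩ := Cfsg.Agent.S0118.result (by omega) (hG.hfree hp5) P {a}
    (Set.singleton_subset_iff.2 (zj_le P ha)) g (by rintro _ ⟨b, rfl, rfl⟩; exact hgP)
  rw [zj_smul, mem_conjMap, ← hna a rfl]
  exact (mem_normalizer_iff''.1 hn a).1 ha

/-- In the quotient of a proper subgroup `H` by `O_{p'}(H)` an element of `Z(J(P))` lies in `O_p`. -/
theorem mk_mem_pCore {H : Subgroup G} (hH : H ≠ ⊤) {P : Sylow p G} {d : G} (hd : d ∈ zj P)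
    (hdH : d ∈ H) [(pPrimeCore p H).Normal] :
    QuotientGroup.mk' (pPrimeCore p H) ⟨d, hdH⟩ ∈ pCore p (H ⧸ pPrimeCore p H) := by
  haveI := hG.proper H hH
  set f := QuotientGroup.mk' (pPrimeCore p H) with hf
  obtain ⟨S, hS⟩ := ((isPGroup_zj P).to_le (zpowers_le.2 hd)).of_equiv
    (subgroupOfEquivOfLe (zpowers_le.2 hdH)).symm |>.exists_le_sylow
  have hdS : (⟨d, hdH⟩ : H) ∈ (S : Subgroup H) := hS (mem_subgroupOf.2 (mem_zpowers d))
  obtain ⟨Q, hQ⟩ := (S.isPGroup'.map H.subtype).exists_le_sylow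
  have hdQ : d ∈ zj Q := hG.mem_zj hp5 hd (hQ ⟨_, hdS, rfl⟩)
  set A := ((zj Q).subgroupOf H).map f with hA
  have hdA : f ⟨d, hdH⟩ ∈ A := mem_map_of_mem _ (mem_subgroupOf.2 hdQ)
  haveI hUn : (pCore p (H ⧸ pPrimeCore p H)).Normal := pCore_normal' p
  set U := pCore p (H ⧸ pPrimeCore p H) with hU
  have hUS : U ≤ (S : Subgroup H).map f := by
    have h := Cfsg.Lib.Coprime.pCore_le_sylow p
      (S.mapSurjective (QuotientGroup.mk'_surjective (pPrimeCore p H)))
    simpa using h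
  have hUA : ⁅U, A⁆ ≤ A := by
    rw [commutator_le]
    intro u hu a ha
    obtain ⟨s, hs, rfl⟩ := hUS hu
    obtain ⟨z, hz, rfl⟩ := ha
    rw [commutatorElement_def, ← map_inv, ← map_inv, ← map_mul, ← map_mul, ← map_mul]
    refine mem_map_of_mem _ (mem_subgroupOf.2 ?_)
    push_cast
    exact mul_mem ((mem_normalizer_iff.1 (sylow_le_nzj Q (hQ ⟨s, hs, rfl⟩)) _).1 hz) (inv_mem hz)
  have hAA : ⁅A, A⁆ = ⊥ := by
    rw [commutator_eq_bot_iff_le_centralizer]
    rintro _ ⟨a, ha, rfl⟩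
    refine mem_centralizer_iff.2 ?_
    rintro _ ⟨b, hb, rfl⟩
    rw [← map_mul, ← map_mul]
    exact congrArg f (Subtype.ext (zj_comm Q hb ha))
  have hzA : zpowers (f ⟨d, hdH⟩) ≤ A := zpowers_le.2 hdA
  have hquad : ⁅⁅U, zpowers (f ⟨d, hdH⟩)⁆, zpowers (f ⟨d, hdH⟩)⁆ ≤
      (frattini U).map U.subtype :=
    (commutator_mono ((commutator_mono le_rfl hzA).trans hUA) hzA).trans (hAA.le.trans bot_le)
  have hns : Cfsg.Lib.ActionStable.NoSection p (H ⧸ pPrimeCore p H) := by
    intro K g hg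
    refine hG.noSection hp5 ((K.comap f).map H.subtype)
      ((g.comp (f.subgroupComap K)).comp
        ((K.comap f).equivMapOfInjective H.subtype H.subtype_injective).symm.toMonoidHom) ?_
    refine (hg.comp ?_).comp (MulEquiv.surjective _)
    rintro ⟨k, hk⟩
    obtain ⟨x, rfl⟩ := QuotientGroup.mk'_surjective (pPrimeCore p H) k
    exact ⟨⟨x, hk⟩, rfl⟩
  obtain ⟨D, hDn, hkD, ⟨k, hk⟩, hdD⟩ :=
    (Cfsg.Lib.ActionStable.isActionPStable_of_noSection (by omega) hns).2.1 _ hquad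
  have hC : centralizer (U : Set (H ⧸ pPrimeCore p H)) ≤ U :=
    Cfsg.Lib.Coprime.centralizer_pCore_le p Cfsg.Lib.Coprime.pPrimeCore_quotient_eq_bot
  have hkerp : IsPGroup p (sectionKernel U ((frattini U).map U.subtype)) := by
    obtain ⟨n, hn⟩ : ∃ n, Nat.card (sectionKernel U ((frattini U).map U.subtype)) = p ^ n := by
      refine ⟨_, Nat.eq_prime_pow_of_unique_prime_dvd Nat.card_pos.ne' fun {q} hq hqd => ?_⟩
      by_contra hqp
      haveI := Fact.mk hq
      obtain ⟨⟨x, hx⟩, hxo⟩ := exists_prime_orderOf_dvd_card' q hqd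
      rw [Subgroup.orderOf_mk] at hxo
      have hcop : (Nat.card (zpowers x)).Coprime p := by
        rw [Nat.card_zpowers, hxo]; exact (Nat.coprime_primes hq hp.out).2 hqp
      obtain ⟨i, hi⟩ := IsPGroup.iff_card.1
        ((isPGroup_pCore (G := H ⧸ pPrimeCore p H) p).to_subgroup (frattini U))
      have h := Cfsg.Lib.Coprime.le_centralizer_of_frattini (A := zpowers x) (K := U)
        (by rw [normalizer_eq_top_iff.2 hUn]; exact le_top) (hi ▸ hcop.pow_right i) (fun a ha b hb => by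
          have ha' : a ∈ sectionKernel U ((frattini U).map U.subtype) :=
            zpowers_le.2 hx ha
          have h1 := mem_centralizer_iff.1 (mem_comap.1 ha') _
            (mem_map_of_mem (QuotientGroup.mk' _) hb)
          rw [← map_mul, ← map_mul] at h1
          rw [← QuotientGroup.eq_one_iff, QuotientGroup.mk_mul, QuotientGroup.mk_mul,
            QuotientGroup.mk_mul, QuotientGroup.mk_inv, QuotientGroup.mk_inv, mul_inv_eq_one,
            mul_inv_eq_iff_eq_mul]
          exact h1.symm)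
      have hx1 : x = 1 := by
        have h2 := coprime_pGroup_disjoint (isPGroup_pCore (G := H ⧸ pPrimeCore p H) p) hcop
        exact mem_bot.1 (h2 ▸ ⟨hC (h (mem_zpowers x)), mem_zpowers x⟩)
      rw [hx1, orderOf_one] at hxo
      exact hq.one_lt.ne hxo
    exact IsPGroup.of_card hn
  obtain ⟨i, hi⟩ := IsPGroup.iff_card.1 hkerp
  refine le_pCore (hn := hDn) (IsPGroup.of_card (n := i + k) ?_) hdD
  rw [pow_add, ← hi, ← hk, mul_comm, ← relIndex_bot_left, ← relIndex_bot_left, mul_comm,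
    relIndex_mul_relIndex _ _ _ bot_le hkD]

/-- If `O_{p'}(H) = 1`, elements of `Z(J(P))` in `H` lie in `O_p(H)`. -/
theorem mem_pCore {H : Subgroup G} (hH : H ≠ ⊤) (h0 : pPrimeCore p H = ⊥) {P : Sylow p G} {d : G}
    (hd : d ∈ zj P) (hdH : d ∈ H) : d ∈ (pCore p H).map H.subtype := by
  haveI : (pPrimeCore p H).Normal := pPrimeCore_normal' p
  set f := QuotientGroup.mk' (pPrimeCore p H) with hf
  have hinj : Function.Injective f := by
    rw [← MonoidHom.ker_eq_bot_iff, QuotientGroup.ker_mk', h0]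
  haveI : (pCore p (H ⧸ pPrimeCore p H)).Normal := pCore_normal' p
  haveI : ((pCore p (H ⧸ pPrimeCore p H)).comap f).Normal := inferInstance
  have hle : (pCore p (H ⧸ pPrimeCore p H)).comap f ≤ pCore p H :=
    le_pCore ((isPGroup_pCore p).comap_of_injective f hinj)
  exact ⟨⟨d, hdH⟩, hle (mem_comap.2 (hG.mk_mem_pCore hp5 hH hd hdH)), rfl⟩

theorem exists_common {H : Subgroup G} (hH : H ≠ ⊤) (h0 : pPrimeCore p H = ⊥) :
    ∃ R : Sylow p G, ∀ (P : Sylow p G) (d : G), d ∈ zj P → d ∈ H → d ∈ zj R := by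
  obtain ⟨R, hR⟩ := ((isPGroup_pCore (G := H) p).map H.subtype).exists_le_sylow
  exact ⟨R, fun P d hd hdH => hG.mem_zj hp5 hd (hR (hG.mem_pCore hp5 hH h0 hd hdH))⟩

omit hp5 in
theorem core_centralizer {x : G} (hx : x ≠ 1) (hxp : IsPGroup p (zpowers x)) :
    pPrimeCore p (centralizer ({x} : Set G)) = ⊥ := by
  have h := hG.core_centralizer_eq_bot hx hxp
  rwa [centralizerPPrimeCore, Subgroup.map_eq_bot_iff_of_injective _ (subtype_injective _)] at h

/-- `Z(J(P))` is a TI set. -/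
theorem zj_eq {P Q : Sylow p G} {e : G} (he : e ≠ 1) (heP : e ∈ zj P) (heQ : e ∈ zj Q) :
    zj P = zj Q := by
  obtain ⟨R, hR⟩ := hG.exists_common hp5 (hG.centralizer_ne_top he)
    (hG.core_centralizer he ((isPGroup_zj P).to_le (zpowers_le.2 heP)))
  have key : ∀ S : Sylow p G, e ∈ zj S → zj S = zj R := fun S heS =>
    zj_eq_of_le fun d hd => hR S d hd (mem_centralizer_singleton_iff.2 (zj_comm S hd heS))
  rw [key P heP, key Q heQ]

include hpG

theorem nzj_ne_top (P : Sylow p G) : nzj P ≠ ⊤ :=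
  hG.normalizer_ne_top (zj_ne_bot hpG P) (hG.ne_top_of_isPGroup (isPGroup_zj P))

omit hG hp5 in
theorem exists_fixed_zj {P : Sylow p G} {x : G} (hxp : IsPGroup p (zpowers x)) (hxN : x ∈ nzj P) :
    ∃ e ∈ zj P, e ≠ 1 ∧ e * x = x * e := by
  set T := zpowers x ⊔ zj P with hT
  have hTp : IsPGroup p T :=
    hxp.to_sup_of_normal_right' (isPGroup_zj P) (zpowers_le.2 hxN)
  haveI := hTp.isNilpotent
  haveI : ((zj P).subgroupOf T).Normal :=
    normal_subgroupOf_iff_le_normalizer le_sup_right |>.2 (sup_le (zpowers_le.2 hxN) le_normalizer)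
  have hne : (zj P).subgroupOf T ≠ ⊥ := by
    rw [Ne, subgroupOf_eq_bot, disjoint_iff, inf_eq_left.2 (le_sup_right : zj P ≤ T)]
    exact zj_ne_bot hpG P
  obtain ⟨⟨e, heT⟩, he, he1⟩ := (((zj P).subgroupOf T ⊓ center T).bot_or_exists_ne_one).resolve_left
    (Cfsg.Lib.Coprime.inf_center_ne_bot _ hne)
  exact ⟨e, mem_subgroupOf.1 he.1, fun h => he1 (Subtype.ext h),
    (congrArg Subtype.val (mem_center_iff.1 he.2 ⟨x, mem_sup_left (mem_zpowers x)⟩)).symm⟩

/-- A nontrivial `p`-element normalizes only one `Z(J(P))`. -/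
theorem zj_eq_of_normalizes {P Q : Sylow p G} {x : G} (hx : x ≠ 1)
    (hxp : IsPGroup p (zpowers x)) (hxP : x ∈ nzj P) (hxQ : x ∈ nzj Q) : zj P = zj Q := by
  obtain ⟨R, hR⟩ := hG.exists_common hp5 (hG.centralizer_ne_top hx) (hG.core_centralizer hx hxp)
  have key : ∀ S : Sylow p G, x ∈ nzj S → zj S = zj R := fun S hS => by
    obtain ⟨e, he, he1, hex⟩ := exists_fixed_zj hpG hxp hS
    exact hG.zj_eq hp5 he1 he (hR S e he (mem_centralizer_singleton_iff.2 hex))
  rw [key P hxP, key Q hxQ]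

theorem normalizer_le_nzj {P : Sylow p G} {X : Subgroup G} (hXp : IsPGroup p X) (hX : X ≠ ⊥)
    (hXN : X ≤ nzj P) : normalizer (X : Set G) ≤ nzj P := by
  intro g hg
  obtain ⟨x, hxX, hx1⟩ := (X.bot_or_exists_ne_one).resolve_left hX
  refine conjMap_eq_self_iff.1 ?_
  rw [← zj_smul]
  refine hG.zj_eq_of_normalizes hp5 hpG hx1
    (hXp.to_le (zpowers_le.2 hxX)) ?_ (hXN hxX)
  rw [nzj_smul, mem_conjMap]
  exact hXN ((mem_normalizer_iff''.1 hg x).1 hxX)

theorem centralizer_le_nzj {P : Sylow p G} {x : G} (hx : x ≠ 1) (hxp : IsPGroup p (zpowers x))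
    (hxP : x ∈ nzj P) : centralizer ({x} : Set G) ≤ nzj P := by
  refine le_trans ?_ (hG.normalizer_le_nzj hp5 hpG hxp (by rwa [Ne, zpowers_eq_bot])
    (zpowers_le.2 hxP))
  rw [← centralizer_closure, ← zpowers_eq_closure]
  exact centralizer_le_normalizer _

/-- A maximal subgroup that is no conjugate of `N(Z(J(P)))`. -/
def IsOther (p : ℕ) [Fact p.Prime] (M : Subgroup G) : Prop :=
  IsCoatom M ∧ ∀ R : Sylow p G, M ≠ nzj R

theorem pCore_other_eq_bot {M : Subgroup G} (hM : IsOther p M) : pCore p M = ⊥ := by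
  by_contra h
  obtain ⟨R, hR⟩ := ((isPGroup_pCore (G := M) p).map M.subtype).exists_le_sylow
  have hle := hG.normalizer_le_nzj hp5 hpG ((isPGroup_pCore (G := M) p).map M.subtype)
    (hG.pCore_map_ne h) (hR.trans (sylow_le_nzj R))
  rw [hG.normalizer_pCore hM.1 h] at hle
  exact hM.2 R ((hM.1.le_iff.1 hle).resolve_left (hG.nzj_ne_top hp5 hpG R)).symm

/-- An other maximal subgroup has no elementary abelian subgroup of order `p²`. -/
theorem isCyclic_of_le_other {M : Subgroup G} (hM : IsOther p M) {E : Subgroup G} (hEM : E ≤ M)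
    (hE : Cfsg.IsElementaryAbelian p E) : IsCyclic E := by
  by_contra hcyc
  haveI := hE.1
  haveI := hG.proper M hM.1.1
  have hEp : IsPGroup p E := fun x => ⟨1, Subtype.ext (by simpa using hE.2 x x.2)⟩
  obtain ⟨S, hES⟩ := (hEp.of_equiv (subgroupOfEquivOfLe hEM).symm).exists_le_sylow
  obtain ⟨R, hR⟩ := (S.isPGroup'.map M.subtype).exists_le_sylow
  have hE0 : E ≤ nzj R := fun x hx => sylow_le_nzj R
    (hR ⟨⟨x, hEM hx⟩, hES (mem_subgroupOf.2 hx), rfl⟩)
  have hK : core p M ≤ nzj R := by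
    have hcop : (Nat.card E).Coprime (Nat.card (core p M)) := by
      obtain ⟨i, hi⟩ := IsPGroup.iff_card.1 hEp
      rw [hi]; exact (coprime_core p M).symm.pow_left i
    rw [← Cfsg.Agent.S0058.result E (core p M) hcyc (hEM.trans (le_normalizer_core p M)) hcop]
    refine iSup₂_le fun a ha => inf_le_right.trans ?_
    exact hG.centralizer_le_nzj hp5 hpG ha.2 (hEp.to_le (zpowers_le.2 ha.1)) (hE0 ha.1)
  haveI hKn : (pPrimeCore p M).Normal := pPrimeCore_normal' p
  set f := QuotientGroup.mk' (pPrimeCore p M) with hf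
  haveI : (pCore p (M ⧸ pPrimeCore p M)).Normal := pCore_normal' p
  set pp := (pCore p (M ⧸ pPrimeCore p M)).comap f with hpp
  set T := ((S : Subgroup M) ⊓ pp) with hT
  have hTpp : T ⊔ pPrimeCore p M = pp := by
    refine le_antisymm (sup_le inf_le_right fun x hx => mem_comap.2 (by
      rw [show f x = 1 from (QuotientGroup.eq_one_iff x).2 hx]; exact one_mem _)) fun x hx => ?_
    have h := Cfsg.Lib.Coprime.pCore_le_sylow p
      (S.mapSurjective (QuotientGroup.mk'_surjective (pPrimeCore p M))) (mem_comap.1 hx)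
    rw [Sylow.coe_mapSurjective] at h
    obtain ⟨s, hs, hsx⟩ := h
    have hsk : s⁻¹ * x ∈ pPrimeCore p M := by
      rw [← QuotientGroup.eq_one_iff, QuotientGroup.mk_mul, QuotientGroup.mk_inv]
      exact inv_mul_eq_one.2 hsx
    have hspp : s ∈ pp := by rw [hpp, mem_comap, hsx]; exact mem_comap.1 hx
    have h2 : s * (s⁻¹ * x) ∈ T ⊔ pPrimeCore p M :=
      mul_mem (mem_sup_left ⟨hs, hspp⟩) (mem_sup_right hsk)
    rwa [mul_inv_cancel_left] at h2
  have hfr : normalizer (T : Set M) ⊔ pp = ⊤ := by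
    rw [sup_comm]; exact Cfsg.Lib.ZJ.sup_normalizer_inf_eq_top pp S
  have htop : normalizer (T : Set M) ⊔ pPrimeCore p M = ⊤ := by
    rw [← hfr, ← hTpp]
    exact le_antisymm (sup_le le_sup_left (le_sup_right.trans le_sup_right))
      (sup_le le_sup_left (sup_le (le_normalizer.trans le_sup_left) le_sup_right))
  have hTne : T.map M.subtype ≠ ⊥ := by
    intro h
    rw [Subgroup.map_eq_bot_iff_of_injective _ M.subtype_injective] at h
    have hpc : pCore p (M ⧸ pPrimeCore p M) = ⊥ := by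
      rw [← map_comap_eq_self_of_surjective (QuotientGroup.mk'_surjective (pPrimeCore p M))
        (pCore p (M ⧸ pPrimeCore p M)), ← hpp, ← hTpp, h, bot_sup_eq, QuotientGroup.map_mk'_self]
    have h1 := Cfsg.Lib.Coprime.centralizer_pCore_le p
      (Cfsg.Lib.Coprime.pPrimeCore_quotient_eq_bot (G := M) (p := p))
    rw [hpc, show ((⊥ : Subgroup (M ⧸ pPrimeCore p M)) : Set (M ⧸ pPrimeCore p M)) = {1} from rfl,
      le_bot_iff, centralizer_eq_top_iff_subset.2 (by simp)] at h1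
    haveI : Subsingleton (M ⧸ pPrimeCore p M) :=
      ⟨fun a b => by
        have key : ∀ c : M ⧸ pPrimeCore p M, c = 1 := fun c => mem_bot.1 (h1 ▸ mem_top c)
        rw [key a, key b]⟩
    exact hcyc (by
      have hE1 : E = ⊥ := by
        rw [eq_bot_iff]
        intro x hx
        have hk : (⟨x, hEM hx⟩ : M) ∈ pPrimeCore p M := by
          rw [← QuotientGroup.eq_one_iff]; exact Subsingleton.elim _ _
        exact (coprime_pGroup_disjoint hEp (coprime_core p M)) ▸
          (⟨hx, ⟨_, hk, rfl⟩⟩ : x ∈ E ⊓ core p M)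
      subst hE1
      infer_instance)
  have hM0 : M ≤ nzj R := by
    intro m hm
    have h : (⟨m, hm⟩ : M) ∈ normalizer (T : Set M) ⊔ pPrimeCore p M := htop ▸ mem_top _
    have h2 : m ∈ (normalizer (T : Set M) ⊔ pPrimeCore p M).map M.subtype := ⟨_, h, rfl⟩
    rw [Subgroup.map_sup] at h2
    refine sup_le ?_ hK h2
    refine (le_normalizer_map M.subtype).trans ?_
    exact hG.normalizer_le_nzj hp5 hpG ((S.isPGroup'.to_le inf_le_left).map M.subtype) hTne
      ((Subgroup.map_mono inf_le_left).trans (hR.trans (sylow_le_nzj R)))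
  exact hM.2 R ((hM.1.le_iff.1 hM0).resolve_left (hG.nzj_ne_top hp5 hpG R)).symm

theorem zpowers_eq_of_sylow {M : Subgroup G} (hM : IsOther p M) {X : Subgroup G} (hXM : X ≤ M)
    (hX : IsPGroup p X) {x y : G} (hxX : x ∈ X) (hyX : y ∈ X) (hx : orderOf x = p)
    (hy : orderOf y = p) : zpowers x = zpowers y := by
  haveI : Nontrivial X :=
    ⟨⟨x, hxX⟩, 1, fun h => ne_one_of_orderOf hx (congrArg Subtype.val h)⟩
  haveI := hX.center_nontrivial
  obtain ⟨n, hn⟩ := IsPGroup.iff_card.1 (hX.to_subgroup (center X))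
  have hn0 : n ≠ 0 := fun h => by
    rw [h, pow_zero] at hn
    exact (Finite.one_lt_card (α := center X)).ne' hn
  obtain ⟨⟨⟨z, hzX⟩, hzc⟩, hzo⟩ :=
    exists_prime_orderOf_dvd_card' (G := center X) p (hn ▸ dvd_pow_self p hn0)
  have hzo' : orderOf z = p := by rw [← hzo, Subgroup.orderOf_mk, Subgroup.orderOf_mk]
  have key : ∀ w ∈ X, orderOf w = p → zpowers w = zpowers z := by
    intro w hw hwo
    have hc : Commute z w := (congrArg Subtype.val (mem_center_iff.1 hzc ⟨w, hw⟩)).symm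
    set E := closure ({z, w} : Set G) with hE
    haveI hEc : IsMulCommutative E := isMulCommutative_closure (by
      rintro a (rfl | rfl) b (rfl | rfl)
      exacts [rfl, hc.eq, hc.eq.symm, rfl])
    have hEe : Cfsg.IsElementaryAbelian p E := ⟨hEc, fun a ha => by
      induction ha using closure_induction with
      | mem b hb =>
        rcases hb with rfl | rfl
        · rw [← hzo', pow_orderOf_eq_one]
        · rw [← hwo, pow_orderOf_eq_one]
      | one => exact one_pow p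
      | mul a b ha hb iha ihb =>
        rw [(show Commute a b from congrArg Subtype.val
          (mul_comm' (⟨a, ha⟩ : E) ⟨b, hb⟩)).mul_pow, iha, ihb, one_mul]
      | inv a ha iha => rw [inv_pow, iha, inv_one]⟩
    have hEX : E ≤ X := (closure_le _).2 (by rintro a (rfl | rfl) <;> assumption)
    haveI := hG.isCyclic_of_le_other hp5 hpG hM (hEX.trans hXM) hEe
    have hcard : Nat.card E ∣ p := by
      rw [← IsCyclic.exponent_eq_card]
      exact Monoid.exponent_dvd_of_forall_pow_eq_one fun a => Subtype.ext (hEe.2 a a.2)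
    have heq : ∀ a ∈ E, orderOf a = p → zpowers a = E := fun a ha hao => by
      refine Subgroup.eq_of_le_of_card_ge (zpowers_le.2 ha) ?_
      rw [Nat.card_zpowers, hao]
      exact Nat.le_of_dvd hp.out.pos hcard
    rw [heq w (subset_closure (Or.inr rfl)) hwo, heq z (subset_closure (Or.inl rfl)) hzo']
  rw [key x hxX hx, key y hyX hy]

theorem exists_conj_mem_zpowers {M : Subgroup G} (hM : IsOther p M) {x f : G} (hxM : x ∈ M)
    (hfM : f ∈ M) (hx : orderOf x = p) (hf : orderOf f = p) :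
    ∃ m ∈ M, m * x * m⁻¹ ∈ zpowers f := by
  obtain ⟨S, hS⟩ := ((isPGroup_zpowers hx).of_equiv
    (subgroupOfEquivOfLe (zpowers_le.2 hxM)).symm).exists_le_sylow
  obtain ⟨T, hT⟩ := ((isPGroup_zpowers hf).of_equiv
    (subgroupOfEquivOfLe (zpowers_le.2 hfM)).symm).exists_le_sylow
  obtain ⟨m, hm⟩ := MulAction.exists_smul_eq M S T
  refine ⟨m, m.2, ?_⟩
  have h1 : m * (⟨x, hxM⟩ : M) * m⁻¹ ∈ (T : Subgroup M) := by
    rw [← hm]
    exact ⟨⟨x, hxM⟩, hS (mem_subgroupOf.2 (mem_zpowers x)), rfl⟩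
  have h2 := hG.zpowers_eq_of_sylow hp5 hpG hM (X := (T : Subgroup M).map M.subtype)
    (map_subtype_le _) (T.isPGroup'.map M.subtype) (x := (m : G) * x * (m : G)⁻¹) (y := f)
    ⟨_, h1, rfl⟩ ⟨⟨f, hfM⟩, hT (mem_subgroupOf.2 (mem_zpowers f)), rfl⟩
    (by rw [show (m : G) * x * (m : G)⁻¹ = MulAut.conj (m : G) x from rfl, MulEquiv.orderOf_eq, hx])
    hf
  exact h2 ▸ mem_zpowers _

theorem exists_maximal (a b : G) : ∃ M : Subgroup G, IsCoatom M ∧ a ∈ M ∧ b ∈ M := by
  obtain ⟨M, hM, hle⟩ := ((eq_top_or_exists_le_coatom (closure ({a, b} : Set G))).resolve_left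
    (hG.two a b))
  exact ⟨M, hM, hle (subset_closure (Or.inl rfl)), hle (subset_closure (Or.inr rfl))⟩

/-- All elements of order `p` of `P` lie in `Z(J(P))`. -/
theorem orderOf_mem_zj {P : Sylow p G} {x : G} (hxP : x ∈ (P : Subgroup G)) (hx : orderOf x = p) :
    x ∈ zj P := by
  obtain ⟨g, hg⟩ : ∃ g : G, g ∉ nzj P := by
    by_contra h
    push Not at h
    exact hG.nzj_ne_top hp5 hpG P (eq_top_iff.2 fun g _ => h g)
  have hne : zj (g • P) ≠ zj P := fun h => hg (conjMap_eq_self_iff.1 (by rw [← zj_smul]; exact h))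
  obtain ⟨f, hf, hfo⟩ := exists_mem_zj_orderOf_eq hpG (g • P)
  obtain ⟨M, hM, hxM, hfM⟩ := hG.exists_maximal hp5 hpG x f
  have hMo : IsOther p M := ⟨hM, fun R hR => hne (by
    have h1 := hG.zj_eq_of_normalizes hp5 hpG (ne_one_of_orderOf hx) (isPGroup_zpowers hx)
      (hR ▸ hxM) (sylow_le_nzj P hxP)
    have h2 := hG.zj_eq_of_normalizes hp5 hpG (ne_one_of_orderOf hfo) (isPGroup_zpowers hfo)
      (hR ▸ hfM) (le_normalizer hf)
    rw [← h1, h2])⟩
  obtain ⟨m, -, hm⟩ := hG.exists_conj_mem_zpowers hp5 hpG hMo hxM hfM hx hfo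
  have h1 : x ∈ zj (m⁻¹ • (g • P)) := by
    have h2 := conj_mem_zj_smul (g := m⁻¹) (zpowers_le.2 hf hm)
    simpa [mul_assoc] using h2
  exact hG.mem_zj hp5 h1 hxP

end MinTwo

end Cfsg.Lib.TwoGen
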