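import Cfsg.Agent.TwoGen.Orbit

/-!
Counting elements: a minimal simple group in which no two elements generate does not exist.
-/

set_option autoImplicit false
set_option linter.unusedSectionVars false
set_option linter.style.haveILetI false

namespace Cfsg.Lib.TwoGen

open Subgroup Cfsg.Lib.Components Cfsg.Lib.Coprime

universe u

variable {G : Type u} [Group G] [Finite G] {p : ℕ} [hp : Fact p.Prime]

omit [Finite G] in
theorem mem_line_conj {e n x : G} (hn : n ∈ line e) (hx : x ∈ line e) : n * x * n⁻¹ ∈ line e :=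
  mul_mem (mul_mem hn hx) (inv_mem hn)

omit hp in
theorem nat_sum_bound {V : Finset ℕ} {u : ℕ} (hp0 : 0 < p) (hV : ∀ v ∈ V, 1 < v ∧ v ≤ u ∧ p ∣ v - 1) :
    p * (∑ v ∈ V, (v - 1)) ≤ u ^ 2 := by
  have h1 : V.card ≤ (u - 1) / p := by
    rw [show (u - 1) / p = (Finset.Icc 1 ((u - 1) / p)).card by simp]
    refine Finset.card_le_card_of_injOn (fun v => (v - 1) / p) ?_ ?_
    · intro v hv
      obtain ⟨h1, h2, h3⟩ := hV v hv
      simp only [Finset.coe_Icc, Set.mem_Icc]
      exact ⟨Nat.div_pos (Nat.le_of_dvd (by omega) h3) hp0, Nat.div_le_div_right (by omega)⟩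
    · intro a ha b hb h
      obtain ⟨a1, -, a3⟩ := hV a ha
      obtain ⟨b1, -, b3⟩ := hV b hb
      have h' : (a - 1) / p = (b - 1) / p := h
      have := congrArg (p * ·) h'
      simp only [Nat.mul_div_cancel' a3, Nat.mul_div_cancel' b3] at this
      omega
  have h2 : ∑ v ∈ V, (v - 1) ≤ V.card * (u - 1) := by
    have := Finset.sum_le_card_nsmul V (fun v => v - 1) (u - 1) fun v hv => by
      have := (hV v hv).2.1
      omega
    simpa using this
  have h3 : p * V.card ≤ u := le_trans (Nat.mul_le_mul_left p h1)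
    (le_trans (Nat.mul_div_le (u - 1) p) (Nat.sub_le u 1))
  calc p * (∑ v ∈ V, (v - 1)) ≤ p * (V.card * (u - 1)) := Nat.mul_le_mul_left p h2
    _ = p * V.card * (u - 1) := (mul_assoc _ _ _).symm
    _ ≤ u * u := Nat.mul_le_mul h3 (Nat.sub_le u 1)
    _ = u ^ 2 := (pow_two u).symm

theorem arith_many {N g u T : ℕ} (hp5 : 5 ≤ p) (hu : 0 < u) (hN : 0 < N)
    (h1 : p * g ≤ (p + 1) * (N * T)) (h2 : u ^ 2 * N ≤ 2 * g) (h3 : p * T ≤ u ^ 2) : False := by
  have h4 : p * p * (u ^ 2 * N) ≤ 2 * (p + 1) * (u ^ 2 * N) := by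
    calc p * p * (u ^ 2 * N) ≤ p * p * (2 * g) := Nat.mul_le_mul_left _ h2
      _ = 2 * p * (p * g) := by ring
      _ ≤ 2 * p * ((p + 1) * (N * T)) := Nat.mul_le_mul_left _ h1
      _ = 2 * (p + 1) * N * (p * T) := by ring
      _ ≤ 2 * (p + 1) * N * u ^ 2 := Nat.mul_le_mul_left _ h3
      _ = _ := by ring
  have h5 := Nat.le_of_mul_le_mul_right h4 (Nat.mul_pos (pow_pos hu 2) hN)
  nlinarith

theorem arith_one {N g u v T : ℕ} (hp5 : 5 ≤ p) (hvu : v ≤ u) (hv : p + 1 ≤ v) (hN : 0 < N)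
    (h1 : p * g ≤ (p + 1) * (N * T)) (h2 : u * v * N ≤ g) (h3 : p * T ≤ p * u + v ^ 2) : False := by
  have hu : 0 < u := by omega
  have h4 : p * p * v * (u * N) ≤ (p + 1) * (p + v) * (u * N) := by
    calc p * p * v * (u * N) = p * p * (u * v * N) := by ring
      _ ≤ p * p * g := Nat.mul_le_mul_left _ h2
      _ = p * (p * g) := by ring
      _ ≤ p * ((p + 1) * (N * T)) := Nat.mul_le_mul_left _ h1
      _ = (p + 1) * N * (p * T) := by ring
      _ ≤ (p + 1) * N * (p * u + v ^ 2) := Nat.mul_le_mul_left _ h3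
      _ ≤ (p + 1) * N * (p * u + u * v) := Nat.mul_le_mul_left _
          (Nat.add_le_add_left (by rw [pow_two]; exact Nat.mul_le_mul_right v hvu) _)
      _ = _ := by ring
  have h5 := Nat.le_of_mul_le_mul_right h4 (Nat.mul_pos hu hN)
  have h6 : v * (p * p) ≤ v * (2 * p + 1) := by nlinarith
  have h7 := Nat.le_of_mul_le_mul_left h6 (by omega)
  nlinarith

namespace MinTwo

variable (hG : MinTwo G) (hp5 : 5 ≤ p) (hpG : p ∣ Nat.card G) {P : Sylow p G} {e : G}
  (he : e ∈ zj P) (heo : orderOf e = p)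

include hG hp5 hpG

omit hp5 hpG in
theorem conj_coatom {M : Subgroup G} (hM : IsCoatom M) (g : G) : IsCoatom (conjMap g M) :=
  ((MulAut.conj g).mapSubgroup.isCoatom_iff M).2 hM

theorem isOther_conj {M : Subgroup G} (hM : IsOther p M) (g : G) : IsOther p (conjMap g M) :=
  ⟨hG.conj_coatom hM.1 g, fun R hR => hM.2 (g⁻¹ • R) (by
    rw [nzj_smul, ← hR, conjMap_inv_conjMap])⟩

/-- The index of `N(Z(J(P)))` exceeds `p`. -/
theorem succ_mul_card_nzj_le (P : Sylow p G) : (p + 1) * Nat.card (nzj P) ≤ Nat.card G := by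
  set H := nzj P with hH
  have hfix : MulAction.fixedPoints (P : Subgroup G) (G ⧸ H) = {QuotientGroup.mk 1} := by
    refine Set.ext fun x => ⟨fun hx => ?_, fun hx => ?_⟩
    · obtain ⟨g, rfl⟩ := QuotientGroup.mk_surjective x
      obtain ⟨d, hd, hdo⟩ := exists_mem_zj_orderOf_eq hpG P
      have h1 : (QuotientGroup.mk (d * g) : G ⧸ H) = QuotientGroup.mk g := hx ⟨d, zj_le P hd⟩
      have h2 : g⁻¹ * d * g ∈ H := by
        have := QuotientGroup.eq.1 h1.symm
        rwa [← mul_assoc] at this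
      have h3 := hG.zj_eq_of_normalizes hp5 hpG (P := g • P) (Q := P) (ne_one_of_orderOf hdo)
        (isPGroup_zpowers hdo) (by rw [nzj_smul, mem_conjMap]; exact h2) (le_normalizer hd)
      rw [zj_smul, conjMap_eq_self_iff] at h3
      rw [Set.mem_singleton_iff]
      exact QuotientGroup.eq.2 (by simpa using inv_mem h3)
    · rw [Set.mem_singleton_iff] at hx
      subst hx
      intro x
      refine QuotientGroup.eq.2 ?_
      simpa using sylow_le_nzj P (inv_mem x.2)
  have h := P.isPGroup'.card_modEq_card_fixedPoints (G ⧸ H)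
  rw [hfix, Nat.card_eq_fintype_card (α := ({QuotientGroup.mk 1} : Set (G ⧸ H))),
    Set.card_singleton] at h
  have h1 : p + 1 ≤ H.index := by
    have hne : H.index ≠ 1 := fun h => hG.nzj_ne_top hp5 hpG P (index_eq_one.1 h)
    have hpos : H.index ≠ 0 := index_ne_zero_of_finite
    have hd : p ∣ H.index - 1 := (Nat.modEq_iff_dvd' (by omega)).1 h.symm
    have := Nat.le_of_dvd (by omega) hd
    omega
  calc (p + 1) * Nat.card H ≤ H.index * Nat.card H := Nat.mul_le_mul_right _ h1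
    _ = Nat.card G := H.index_mul_card

include he heo

theorem line_le : line e ≤ nzj P :=
  hG.normalizer_le_nzj hp5 hpG (isPGroup_zpowers heo)
    (by rw [Ne, zpowers_eq_bot]; exact ne_one_of_orderOf heo) (zpowers_le.2 (le_normalizer he))

theorem mem_conjMap_of_line {n : G} (hn : n ∈ line e) {M : Subgroup G} (heM : e ∈ M) :
    e ∈ conjMap n M := by
  rw [mem_conjMap]
  exact zpowers_le.2 heM ((mem_normalizer_iff''.1 hn e).1 (mem_zpowers e))

theorem eq_one_of_core_line {M : Subgroup G} (hM : IsOther p M) (heM : e ∈ M) {d : G}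
    (hdK : d ∈ core p M) (hdN : d ∈ line e) : d = 1 := by
  have h3 : d * e * d⁻¹ * e⁻¹ ∈ zpowers e :=
    mul_mem ((mem_normalizer_iff.1 hdN e).1 (mem_zpowers e)) (inv_mem (mem_zpowers e))
  have h4 : d * e * d⁻¹ * e⁻¹ ∈ core p M := by
    have := mul_mem hdK
      ((mem_normalizer_iff.1 (le_normalizer_core p M heM) d⁻¹).1 (inv_mem hdK))
    simpa [mul_assoc] using this
  have h5 := eq_one_of_pGroup_coprime (isPGroup_zpowers heo) (coprime_core p M) h3 h4
  rw [mul_inv_eq_one, mul_inv_eq_iff_eq_mul] at h5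
  exact hG.core_fpf hp5 hpG he heo hM heM d hdK h5.symm

theorem normalizer_other {M : Subgroup G} (hM : IsOther p M) (heM : e ∈ M) :
    normalizer (M : Set G) = M :=
  (hM.1.le_iff.1 le_normalizer).resolve_left
    (hG.normalizer_ne_top (fun h => ne_one_of_orderOf heo (mem_bot.1 (h ▸ heM : e ∈ (⊥ : Subgroup G))))
      hM.1.1)

/-- The core of an other maximal subgroup has order `≡ 1 (mod p)`, larger than `1`. -/
theorem card_core_spec {M : Subgroup G} (hM : IsOther p M) (heM : e ∈ M) :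
    1 < Nat.card (core p M) ∧ p ∣ Nat.card (core p M) - 1 := by
  refine ⟨(one_lt_card_iff_ne_bot _).2 (hG.core_ne_bot hp5 hpG he heo hM heM),
    (Nat.modEq_iff_dvd' Nat.card_pos).1 ?_⟩
  exact (card_modEq_one heo (le_normalizer_core p M heM)
    (hG.core_fpf hp5 hpG he heo hM heM)).symm

/-- Other maximal subgroups whose cores have the same order are conjugate under `N(⟨e⟩)`. -/
theorem exists_conj_of_card {M M' : Subgroup G} (hM : IsOther p M) (heM : e ∈ M)
    (hM' : IsOther p M') (heM' : e ∈ M') (h : Nat.card (core p M) = Nat.card (core p M')) :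
    ∃ n ∈ line e, conjMap n M = M' := by
  obtain ⟨r, hr, -, hrM⟩ := hG.core_type hp5 hpG he heo hM heM
  haveI := Fact.mk hr
  obtain ⟨k, hk⟩ := IsPGroup.iff_card.1 hrM
  exact hG.exists_conj_of_type hp5 hpG he heo hM heM hM' heM' hrM
    (IsPGroup.of_card (n := k) (h ▸ hk))

theorem card_inter_line {M M' : Subgroup G} (hM : IsOther p M) (heM : e ∈ M) (hM' : IsOther p M')
    (heM' : e ∈ M') (h : Nat.card (core p M) = Nat.card (core p M')) :
    Nat.card ↥(M ⊓ line e) = Nat.card ↥(M' ⊓ line e) := by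
  obtain ⟨n, -, hn⟩ := hG.exists_conj_of_card hp5 hpG he heo hM heM hM' heM' h
  have h1 : Nat.card M = Nat.card M' := by rw [← hn, card_conjMap]
  rw [hG.card_eq hp5 hpG he heo hM heM, hG.card_eq hp5 hpG he heo hM' heM', h] at h1
  exact Nat.eq_of_mul_eq_mul_left Nat.card_pos h1

/-- The products `x n y` are distinct. -/
theorem prod_le_card {Mi Mj : Subgroup G} (hi : IsOther p Mi) (hei : e ∈ Mi) (hj : IsOther p Mj)
    (hej : e ∈ Mj) {B : Set G} (hB : ∀ n ∈ B, n ∈ line e ∧ conjMap n Mj ≠ Mi) :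
    Nat.card (core p Mi) * B.ncard * Nat.card (core p Mj) ≤ Nat.card G := by
  rw [← Nat.card_coe_set_eq, ← Nat.card_prod, ← Nat.card_prod]
  refine Nat.card_le_card_of_injective
    (fun t : ((core p Mi) × B) × (core p Mj) => (t.1.1 : G) * t.1.2 * t.2) ?_
  rintro ⟨⟨x, n⟩, y⟩ ⟨⟨x', n'⟩, y'⟩ h
  have h' : (x : G) * n * y = x' * n' * y' := h
  obtain ⟨hn, -⟩ := hB n n.2
  obtain ⟨hn', hne⟩ := hB n' n'.2
  set x0 := (x' : G)⁻¹ * x with hx0
  set y0 := (y' : G) * (y : G)⁻¹ with hy0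
  have hx0K : x0 ∈ core p Mi := mul_mem (inv_mem x'.2) x.2
  have hy0K : y0 ∈ core p Mj := mul_mem y'.2 (inv_mem y.2)
  have heq : x0 * n = n' * y0 := by
    calc x0 * n = (x' : G)⁻¹ * (x * n * y) * (y : G)⁻¹ := by rw [hx0]; group
      _ = (x' : G)⁻¹ * (x' * n' * y') * (y : G)⁻¹ := by rw [h']
      _ = _ := by rw [hy0]; group
  set y1 := (n' : G) * y0 * (n' : G)⁻¹ with hy1
  set d := (n' : G) * (n : G)⁻¹ with hd
  have hxd : x0 = y1 * d := by
    rw [hy1, hd, eq_comm]
    calc (n' : G) * y0 * (n' : G)⁻¹ * (n' * (n : G)⁻¹) = n' * y0 * (n : G)⁻¹ := by group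
      _ = _ := by rw [← heq]; group
  have hy1M : y1 ∈ conjMap (n' : G) Mj := ⟨y0, core_le p Mj hy0K, rfl⟩
  have heC := hG.mem_conjMap_of_line hp5 hpG he heo hn' hej
  have hdl : d * e * d⁻¹ ∈ zpowers e :=
    (mem_normalizer_iff.1 (mul_mem hn' (inv_mem hn)) e).1 (mem_zpowers e)
  have hc1 : x0 * e * x0⁻¹ * e⁻¹ ∈ conjMap (n' : G) Mj := by
    rw [hxd, show y1 * d * e * (y1 * d)⁻¹ * e⁻¹ = y1 * (d * e * d⁻¹) * y1⁻¹ * e⁻¹ by group]
    exact mul_mem (mul_mem (mul_mem hy1M (zpowers_le.2 heC hdl)) (inv_mem hy1M)) (inv_mem heC)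
  have hc2 : x0 * e * x0⁻¹ * e⁻¹ ∈ core p Mi := by
    have := mul_mem hx0K ((mem_normalizer_iff.1 (le_normalizer_core p Mi hei) x0⁻¹).1 (inv_mem hx0K))
    simpa [mul_assoc] using this
  have hc3 : x0 * e * x0⁻¹ * e⁻¹ = 1 := by
    have := hG.core_inf_eq_bot hp5 hpG he heo hi hei (hG.isOther_conj hp5 hpG hj n') heC hne.symm
    exact mem_bot.1 (this ▸ (⟨hc2, hc1⟩ : _ ∈ core p Mi ⊓ conjMap (n' : G) Mj))
  rw [mul_inv_eq_one, mul_inv_eq_iff_eq_mul] at hc3
  have hx1 : x0 = 1 := hG.core_fpf hp5 hpG he heo hi hei x0 hx0K hc3.symm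
  have hy1' : y0 = (n' : G)⁻¹ * n := by
    rw [hx1, one_mul] at heq
    rw [heq]; group
  have hy01 : y0 = 1 := hG.eq_one_of_core_line hp5 hpG he heo hj hej hy0K
    (hy1' ▸ mul_mem (inv_mem hn') hn)
  have hnn : n' = n := Subtype.ext (inv_mul_eq_one.1 (hy1' ▸ hy01))
  have hxx : x = x' := (Subtype.ext (inv_mul_eq_one.1 hx1)).symm
  have hyy : y = y' := (Subtype.ext (mul_inv_eq_one.1 hy01)).symm
  rw [hnn, hxx, hyy]

set_option maxHeartbeats 1000000 in
theorem contradiction_aux : False := by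
  classical
  haveI := Fintype.ofFinite G
  haveI := hG.nontrivial
  set F : Finset (Subgroup G) := (Set.toFinite {M | IsOther p M ∧ e ∈ M}).toFinset with hFdef
  have hF : ∀ M, M ∈ F ↔ IsOther p M ∧ e ∈ M := fun M => by simp [hFdef]
  set u : Subgroup G → ℕ := fun M => Nat.card (core p M) with hu
  set c : Subgroup G → ℕ := fun M => Nat.card ↥(M ⊓ line e) with hc
  set V := F.image u with hV
  set N := Nat.card (line e) with hN
  have hcover : ∀ g : G, g ∈ nzj P ∨
      ∃ M ∈ F, ∃ a ∈ core p M, a ≠ 1 ∧ ∃ n ∈ M ⊓ line e, a * n = g := by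
    intro g
    by_cases hg : g ∈ nzj P
    · exact Or.inl hg
    obtain ⟨M, hM, heM, hgM⟩ := hG.exists_maximal hp5 hpG e g
    have hne : M ≠ nzj P := fun h => hg (h ▸ hgM)
    have hMo := hG.isOther_of_mem hp5 hpG he heo hM heM hne
    obtain ⟨a, ha, han⟩ := hG.exists_split hp5 hpG he heo hMo heM hgM
    refine Or.inr ⟨M, (hF M).2 ⟨hMo, heM⟩, a, ha, fun ha1 => hg ?_, a⁻¹ * g,
      ⟨(show a⁻¹ * g ∈ M from mul_mem (inv_mem (core_le p M ha)) hgM), han⟩, mul_inv_cancel_left a g⟩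
    rw [ha1, inv_one, one_mul] at han
    exact hG.line_le hp5 hpG he heo han
  -- counting
  have hsub : (Finset.univ : Finset G) ⊆ (nzj P : Set G).toFinset ∪ F.biUnion (fun M =>
      Finset.image₂ (· * ·) (((core p M : Set G).toFinset).erase 1)
        ((M ⊓ line e : Subgroup G) : Set G).toFinset) := by
    intro g _
    rcases hcover g with hg | ⟨M, hM, a, ha, ha1, n, hn, hg⟩
    · exact Finset.mem_union_left _ (Set.mem_toFinset.2 hg)
    · exact Finset.mem_union_right _ (Finset.mem_biUnion.2 ⟨M, hM, Finset.mem_image₂.2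
        ⟨a, Finset.mem_erase.2 ⟨ha1, Set.mem_toFinset.2 ha⟩, n, Set.mem_toFinset.2 hn, hg⟩⟩)
  have hcardS : ∀ H : Subgroup G, ((H : Set G).toFinset).card = Nat.card H := fun H => by
    rw [Set.toFinset_card, ← Nat.card_eq_fintype_card]; rfl
  have hG1 : Nat.card G ≤ Nat.card (nzj P) + ∑ M ∈ F, (u M - 1) * c M := by
    rw [Nat.card_eq_fintype_card, ← Finset.card_univ]
    refine (Finset.card_le_card hsub).trans ((Finset.card_union_le _ _).trans
      (Nat.add_le_add (hcardS _).le (Finset.card_biUnion_le.trans (Finset.sum_le_sum fun M _ => ?_))))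
    refine (Finset.card_image₂_le _ _ _).trans (le_of_eq ?_)
    rw [Finset.card_erase_of_mem (Set.mem_toFinset.2 (one_mem _)), hcardS, hcardS]
  have hfib : ∀ v, ∀ M₀ ∈ F, u M₀ = v → (F.filter (fun M => u M = v)).card * c M₀ ≤ N := by
    intro v M₀ hM₀ hv
    obtain ⟨h0, he0⟩ := (hF M₀).1 hM₀
    have hex : ∀ M : {x // x ∈ F.filter (fun M => u M = v)},
        ∃ n ∈ line e, conjMap n M₀ = (M : Subgroup G) := fun M => by
      obtain ⟨hMF, hMv⟩ := Finset.mem_filter.1 M.2
      exact hG.exists_conj_of_card hp5 hpG he heo h0 he0 ((hF _).1 hMF).1 ((hF _).1 hMF).2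
        (hv.trans hMv.symm)
    choose n hn hnM using hex
    rw [← Nat.card_eq_finsetCard, hc, hN, ← Nat.card_prod]
    refine Nat.card_le_card_of_injective (fun t : _ × ↥(M₀ ⊓ line e) =>
      (⟨n t.1 * (t.2 : G), mul_mem (hn t.1) t.2.2.2⟩ : line e)) ?_
    rintro ⟨M, s⟩ ⟨M', s'⟩ h
    have h' : n M * (s : G) = n M' * (s' : G) := congrArg Subtype.val h
    have h1 : ∀ (X : {x // x ∈ F.filter (fun M => u M = v)}) (t : ↥(M₀ ⊓ line e)),
        conjMap (n X * (t : G)) M₀ = (X : Subgroup G) := fun X t => by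
      rw [← conjMap_mul, conjMap_eq_self (le_normalizer t.2.1), hnM]
    have hMM : M = M' := Subtype.ext (by rw [← h1 M s, ← h1 M' s', h'])
    subst hMM
    rw [Prod.mk.injEq]
    exact ⟨rfl, Subtype.ext (mul_left_cancel h')⟩
  have hfibs : ∑ M ∈ F, (u M - 1) * c M ≤ N * ∑ v ∈ V, (v - 1) := by
    rw [Finset.mul_sum, ← Finset.sum_fiberwise_of_maps_to (g := u) (t := V)
      (fun M hM => Finset.mem_image_of_mem u hM)]
    refine Finset.sum_le_sum fun v hv => ?_
    obtain ⟨M₀, hM₀, hv₀⟩ := Finset.mem_image.1 hv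
    have h1 : ∀ M ∈ F.filter (fun M => u M = v), (u M - 1) * c M = (v - 1) * c M₀ := fun M hM => by
      obtain ⟨hMF, hMv⟩ := Finset.mem_filter.1 hM
      rw [hMv]
      congr 1
      exact hG.card_inter_line hp5 hpG he heo ((hF M).1 hMF).1 ((hF M).1 hMF).2
        ((hF M₀).1 hM₀).1 ((hF M₀).1 hM₀).2 (hMv.trans hv₀.symm)
    rw [Finset.sum_congr rfl h1, Finset.sum_const, smul_eq_mul]
    calc (F.filter (fun M => u M = v)).card * ((v - 1) * c M₀)
        = (v - 1) * ((F.filter (fun M => u M = v)).card * c M₀) := by ring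
      _ ≤ (v - 1) * N := Nat.mul_le_mul_left _ (hfib v M₀ hM₀ hv₀)
      _ = N * (v - 1) := mul_comm _ _
  set T := ∑ v ∈ V, (v - 1) with hT
  have hmain : p * Nat.card G ≤ (p + 1) * (N * T) := by
    have h1 := hG.succ_mul_card_nzj_le hp5 hpG P
    have h2 : (p + 1) * Nat.card G ≤ (p + 1) * (Nat.card (nzj P) + N * T) :=
      Nat.mul_le_mul_left _ (hG1.trans (Nat.add_le_add_left hfibs _))
    rw [Nat.mul_add] at h2
    have h3 : (p + 1) * Nat.card G = p * Nat.card G + Nat.card G := by ring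
    omega
  -- the largest value
  have hFne : F.Nonempty := by
    obtain ⟨g, hg⟩ : ∃ g : G, g ∉ nzj P := by
      by_contra h
      push Not at h
      exact hG.nzj_ne_top hp5 hpG P (eq_top_iff.2 fun g _ => h g)
    exact ((hcover g).resolve_left hg).imp fun M h => h.1
  have hVne : V.Nonempty := hFne.image u
  set u1 := V.max' hVne with hu1
  obtain ⟨M1, hM1, hM1u⟩ := Finset.mem_image.1 (V.max'_mem hVne)
  obtain ⟨hM1o, he1⟩ := (hF M1).1 hM1
  have hVspec : ∀ v ∈ V, 1 < v ∧ v ≤ u1 ∧ p ∣ v - 1 := fun v hv => by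
    obtain ⟨M, hM, rfl⟩ := Finset.mem_image.1 hv
    obtain ⟨h1, h2⟩ := hG.card_core_spec hp5 hpG he heo ((hF M).1 hM).1 ((hF M).1 hM).2
    exact ⟨h1, V.le_max' _ hv, h2⟩
  have hN0 : 0 < N := Nat.card_pos
  by_cases hk : ∃ M ∈ F, u M = u1 ∧ M ≠ M1
  · obtain ⟨M, hM, hMu, hne⟩ := hk
    obtain ⟨n₀, hn₀, hn₀M⟩ := hG.exists_conj_of_card hp5 hpG he heo hM1o he1 ((hF M).1 hM).1
      ((hF M).1 hM).2 (hM1u.trans hMu.symm)
    have hlt : 2 * c M1 ≤ N := by
      have hd : c M1 ∣ N := card_dvd_of_le inf_le_right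
      have hlt : c M1 < N := by
        refine lt_of_le_of_ne (Nat.le_of_dvd hN0 hd) fun h => hne ?_
        have h1 : M1 ⊓ line e = line e := Subgroup.eq_of_le_of_card_ge inf_le_right h.ge
        have h2 : n₀ ∈ M1 := (h1.ge hn₀).1
        rw [← hn₀M, conjMap_eq_self (le_normalizer h2)]
      obtain ⟨q, hq⟩ := hd
      have hq2 : 2 ≤ q := by
        by_contra h
        have h1 : c M1 * q ≤ c M1 * 1 := Nat.mul_le_mul_left _ (by omega)
        omega
      rw [hq, mul_comm]
      exact Nat.mul_le_mul_left _ hq2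
    have hB : N - c M1 ≤ ((line e : Set G) \ (M1 : Set G)).ncard := by
      have e1 := Set.ncard_inter_add_ncard_diff_eq_ncard (line e : Set G) (M1 : Set G) (Set.toFinite _)
      have e2 : N = (line e : Set G).ncard := Nat.card_coe_set_eq (line e : Set G)
      have e3 : c M1 = ((line e : Set G) ∩ (M1 : Set G)).ncard := by
        rw [Set.inter_comm]
        exact Nat.card_coe_set_eq ((M1 ⊓ line e : Subgroup G) : Set G)
      omega
    have hp1 := hG.prod_le_card hp5 hpG he heo hM1o he1 hM1o he1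
      (B := (line e : Set G) \ (M1 : Set G)) fun n hn => ⟨hn.1, fun h => hn.2 (by
        have h1 := conjMap_eq_self_iff.1 h
        rwa [hG.normalizer_other hp5 hpG he heo hM1o he1] at h1)⟩
    have h2 : u1 ^ 2 * N ≤ 2 * Nat.card G := by
      have hM1u' : Nat.card (core p M1) = u1 := hM1u
      rw [hM1u'] at hp1
      calc u1 ^ 2 * N ≤ u1 ^ 2 * (2 * ((line e : Set G) \ (M1 : Set G)).ncard) :=
            Nat.mul_le_mul_left _ (by omega)
        _ = 2 * (u1 * ((line e : Set G) \ (M1 : Set G)).ncard * u1) := by ring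
        _ ≤ _ := Nat.mul_le_mul_left 2 hp1
    exact arith_many hp5 (by have := (hVspec u1 (V.max'_mem hVne)).1; omega) hN0 hmain h2
      (nat_sum_bound hp.out.pos hVspec)
  · push Not at hk
    set V' := V.erase u1 with hV'
    have hV'ne : V'.Nonempty := by
      by_contra hemp
      rw [Finset.not_nonempty_iff_eq_empty] at hemp
      have hall : ∀ M ∈ F, M = M1 := fun M hM => hk M hM (by
        by_contra h
        exact Finset.notMem_empty (u M) (hemp ▸ Finset.mem_erase.2 ⟨h, Finset.mem_image_of_mem u hM⟩))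
      have hsub : ∀ g : G, g ∈ nzj P ∨ g ∈ M1 := fun g => by
        rcases hcover g with h | ⟨M, hM, a, ha, -, n, hn, rfl⟩
        · exact Or.inl h
        · rw [hall M hM] at ha hn
          exact Or.inr (mul_mem (core_le p M1 ha) hn.1)
      obtain ⟨x, hx⟩ : ∃ x : G, x ∉ nzj P := by
        by_contra h
        push Not at h
        exact hG.nzj_ne_top hp5 hpG P (eq_top_iff.2 fun g _ => h g)
      obtain ⟨y, hy⟩ : ∃ y : G, y ∉ M1 := by
        by_contra h
        push Not at h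
        exact hM1o.1.1 (eq_top_iff.2 fun g _ => h g)
      have hx1 := (hsub x).resolve_left hx
      have hy0 := (hsub y).resolve_right hy
      rcases hsub (x * y) with h | h
      · exact hx (by simpa using mul_mem h (inv_mem hy0))
      · exact hy (by simpa using mul_mem (inv_mem hx1) h)
    set u2 := V'.max' hV'ne with hu2
    obtain ⟨hne2, hu2V⟩ := Finset.mem_erase.1 (V'.max'_mem hV'ne)
    obtain ⟨M2, hM2, hM2u⟩ := Finset.mem_image.1 hu2V
    obtain ⟨hM2o, he2⟩ := (hF M2).1 hM2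
    have hV'spec : ∀ v ∈ V', 1 < v ∧ v ≤ u2 ∧ p ∣ v - 1 := fun v hv => by
      obtain ⟨h1, -, h3⟩ := hVspec v (Finset.mem_of_mem_erase hv)
      exact ⟨h1, V'.le_max' v hv, h3⟩
    have hprod := hG.prod_le_card hp5 hpG he heo hM1o he1 hM2o he2 (B := (line e : Set G))
      fun n hn => ⟨hn, fun h => hne2 (by
        have h1 : Nat.card M2 = Nat.card M1 := by rw [← h, card_conjMap]
        have h2 : conjMap n (M2 ⊓ line e) = M1 ⊓ line e := by
          rw [conjMap_inf, h, conjMap_eq_self (le_normalizer hn)]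
        rw [hG.card_eq hp5 hpG he heo hM1o he1, hG.card_eq hp5 hpG he heo hM2o he2,
          ← h2, card_conjMap] at h1
        have h3 := Nat.eq_of_mul_eq_mul_right Nat.card_pos h1
        exact hM2u.symm.trans (h3.trans hM1u))⟩
    have hT' : T = (u1 - 1) + ∑ v ∈ V', (v - 1) :=
      (Finset.add_sum_erase V (fun v => v - 1) (V.max'_mem hVne)).symm
    have h3 : p * T ≤ p * u1 + u2 ^ 2 := by
      rw [hT', Nat.mul_add]
      exact Nat.add_le_add (Nat.mul_le_mul_left p (Nat.sub_le u1 1)) (nat_sum_bound hp.out.pos hV'spec)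
    obtain ⟨hv1, hv3⟩ := (hVspec u2 hu2V).imp_right And.right
    refine arith_one hp5 ((hVspec u2 hu2V).2.1) ?_ hN0 hmain ?_ h3
    · have := Nat.le_of_dvd (by omega) hv3
      omega
    · have hM1u' : Nat.card (core p M1) = u1 := hM1u
      have hM2u' : Nat.card (core p M2) = u2 := hM2u
      rw [hM1u', hM2u', ← Nat.card_coe_set_eq] at hprod
      calc u1 * u2 * N = u1 * N * u2 := by ring
        _ ≤ _ := hprod

end MinTwo

theorem false_of_minTwo {G : Type u} [Group G] [Finite G] (hG : MinTwo G) : False := by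
  obtain ⟨p, hp, hp5, hpG⟩ : ∃ p : ℕ, p.Prime ∧ 5 ≤ p ∧ p ∣ Nat.card G := by
    by_contra hcon
    push Not at hcon
    haveI : Fact (Nat.Prime 3) := ⟨Nat.prime_three⟩
    refine hG.nonsol (Cfsg.Lib.Chars.burnside_isSolvable 2 3 Nat.prime_two Nat.prime_three G
      ⟨_, _, Cfsg.Lib.PowellGen.card_two_primes (p := 3) Nat.card_pos.ne' (by norm_num)
        fun q hq hqd => ?_⟩)
    have h := hcon q hq
    by_contra hne
    simp only [Set.mem_insert_iff, Set.mem_singleton_iff, not_or] at hne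
    have h4 : q ≠ 4 := fun h => by subst h; norm_num at hq
    have := hq.two_le
    exact h (by omega) hqd
  haveI := Fact.mk hp
  obtain ⟨P⟩ := (inferInstance : Nonempty (Sylow p G))
  obtain ⟨e, he, heo⟩ := exists_mem_zj_orderOf_eq hpG P
  exact hG.contradiction_aux hp5 hpG he heo

end Cfsg.Lib.TwoGen
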