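import Mathlib
import Cfsg.Prelude
import Cfsg.Agent.Coprime.Action
import Cfsg.Agent.Coprime.Sylow
import Cfsg.Agent.Coprime.Fitting
import Cfsg.Agent.Coprime.SolvableBasics
import Cfsg.Agent.Components.Balance
import Cfsg.Agent.Components.Misc.SolvBalance
import Cfsg.Agent.PowellGen.Main

/-!
Two-generation of minimal simple groups, basic consequences of the hypothesis that no two
elements generate: every local subgroup has characteristic `r`.
-/

set_option autoImplicit false
set_option linter.unusedSectionVars false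
set_option linter.style.haveILetI false

namespace Cfsg.Lib.TwoGen

open Subgroup Cfsg.Lib.Components Cfsg.Lib.Coprime

universe u

/-- A non-soluble simple group with all proper subgroups soluble in which no two elements
generate the group. -/
structure MinTwo (G : Type u) [Group G] [Finite G] : Prop where
  simple : IsSimpleGroup G
  nonsol : ¬ Group.IsSolvable G
  proper : ∀ H : Subgroup G, H ≠ ⊤ → Group.IsSolvable H
  two : ∀ a b : G, closure ({a, b} : Set G) ≠ ⊤

variable {G : Type u} [Group G] [Finite G]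

/-- `O_{p'}(H)` as a subgroup of the ambient group. -/
def core (p : ℕ) (H : Subgroup G) : Subgroup G := (pPrimeCore p H).map H.subtype

theorem core_le (p : ℕ) (H : Subgroup G) : core p H ≤ H := map_subtype_le _

theorem card_core (p : ℕ) (H : Subgroup G) : Nat.card (core p H) = Nat.card (pPrimeCore p H) :=
  Subgroup.card_map_of_injective H.subtype_injective

theorem coprime_core (p : ℕ) (H : Subgroup G) : (Nat.card (core p H)).Coprime p :=
  card_core p H ▸ coprime_card_pPrimeCore p

theorem le_normalizer_core (p : ℕ) (H : Subgroup G) : H ≤ normalizer (core p H : Set G) := by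
  intro h hh
  refine mem_normalizer_of_conj_mem ?_ ?_
  · rintro _ ⟨z, hz, rfl⟩
    exact ⟨⟨h, hh⟩ * z * ⟨h, hh⟩⁻¹, (pPrimeCore_normal' p).conj_mem z hz _, rfl⟩
  · rintro _ ⟨z, hz, rfl⟩
    exact ⟨⟨h, hh⟩⁻¹ * z * ⟨h, hh⟩, by
      simpa using (pPrimeCore_normal' (G := H) p).conj_mem z hz ⟨h, hh⟩⁻¹, rfl⟩

/-- A consequence of the `P × Q` lemma: in a soluble group a `p'`-subgroup centralizing a
`p`-subgroup `Q` and normalized by `C(Q)` lies in `O_{p'}`. -/
theorem le_pPrimeCore_of_centralizes {L : Type u} [Group L] [Finite L] [Group.IsSolvable L]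
    {p : ℕ} [Fact p.Prime] (Q W : Subgroup L) (hQ : IsPGroup p Q) (hW : (Nat.card W).Coprime p)
    (hWQ : W ≤ centralizer (Q : Set L)) (hn : centralizer (Q : Set L) ≤ normalizer (W : Set L)) :
    W ≤ pPrimeCore p L := by
  haveI : (pPrimeCore p L).Normal := pPrimeCore_normal' p
  set f := QuotientGroup.mk' (pPrimeCore p L) with hf
  haveI : (pCore p (L ⧸ pPrimeCore p L)).Normal := pCore_normal' p
  set U := pCore p (L ⧸ pPrimeCore p L) with hU
  have hUn : ∀ X : Subgroup (L ⧸ pPrimeCore p L), X ≤ normalizer (U : Set (L ⧸ pPrimeCore p L)) :=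
    fun X => by rw [normalizer_eq_top_iff.2 inferInstance]; exact le_top
  have hUp : IsPGroup p U := isPGroup_pCore p
  have hWc : (Nat.card (W.map f)).Coprime p :=
    Nat.Coprime.coprime_dvd_left (Subgroup.card_map_dvd _ _) hW
  have hdis : ∀ x ∈ U, x ∈ W.map f → x = 1 := by
    intro x hxU hxW
    have h := coprime_pGroup_disjoint hUp hWc
    have hx : x ∈ (⊥ : Subgroup (L ⧸ pPrimeCore p L)) := h ▸ ⟨hxU, hxW⟩
    exact mem_bot.1 hx
  have key : W.map f ≤ centralizer (U : Set (L ⧸ pPrimeCore p L)) := by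
    refine pq_lemma (hQ.map f) hWc hUp ?_ (hUn _) (hUn _) ?_
    · rintro _ ⟨q, hq, rfl⟩
      refine mem_centralizer_iff.2 ?_
      rintro _ ⟨w, hw, rfl⟩
      rw [← map_mul, ← map_mul, (mem_centralizer_iff.1 (hWQ hw) q hq).symm]
    · rintro ū ⟨hūU, hūQ⟩
      obtain ⟨k, rfl⟩ := QuotientGroup.mk'_surjective (pPrimeCore p L) ū
      obtain ⟨n, hn', hkn⟩ := exists_fixed_of_commutator_mem (A := Q) (N := pPrimeCore p L) (k := k)
        (by rw [normalizer_eq_top_iff.2 inferInstance]; exact le_top)
        (by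
          obtain ⟨i, hi⟩ := IsPGroup.iff_card.1 hQ
          rw [hi]; exact (coprime_card_pPrimeCore p).symm.pow_left i)
        (Or.inr inferInstance)
        (by rw [normalizer_eq_top_iff.2 inferInstance]; exact mem_top k)
        (fun a ha => by
          rw [← QuotientGroup.eq_one_iff, QuotientGroup.mk_mul, QuotientGroup.mk_mul,
            QuotientGroup.mk_mul, QuotientGroup.mk_inv, QuotientGroup.mk_inv, mul_inv_eq_one,
            mul_inv_eq_iff_eq_mul]
          exact mem_centralizer_iff.1 hūQ _ ⟨a, ha, rfl⟩)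
      have hfk : f (k * n) = f k := by
        rw [map_mul, show f n = 1 from (QuotientGroup.eq_one_iff n).2 hn', mul_one]
      refine mem_centralizer_iff.2 ?_
      rintro _ ⟨w, hw, rfl⟩
      have hc : f w * f k * (f w)⁻¹ * (f k)⁻¹ = 1 := by
        refine hdis _ (mul_mem ((mem_normalizer_iff.1 (hUn ⊤ (mem_top (f w))) _).1 hūU)
          (inv_mem hūU)) ?_
        rw [show f w * f k * (f w)⁻¹ * (f k)⁻¹ = f (w * ((k * n) * w⁻¹ * (k * n)⁻¹)) by
          simp only [map_mul, map_inv, show f n = 1 from (QuotientGroup.eq_one_iff n).2 hn',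
            mul_one]
          group]
        exact mem_map_of_mem _ (mul_mem hw ((mem_normalizer_iff.1 (hn hkn) _).1 (inv_mem hw)))
      rwa [mul_inv_eq_one, mul_inv_eq_iff_eq_mul] at hc
  have hle := key.trans (Cfsg.Lib.Coprime.centralizer_pCore_le p Cfsg.Lib.Coprime.pPrimeCore_quotient_eq_bot)
  intro w hw
  rw [← QuotientGroup.eq_one_iff]
  exact hdis _ (hle (mem_map_of_mem f hw)) (mem_map_of_mem f hw)

/-- The same inside a soluble subgroup. -/
theorem le_core_of_centralizes {p : ℕ} [Fact p.Prime] {H : Subgroup G} [Group.IsSolvable H]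
    (Q W : Subgroup G) (hQH : Q ≤ H) (hWH : W ≤ H) (hQ : IsPGroup p Q)
    (hW : (Nat.card W).Coprime p) (hWQ : W ≤ centralizer (Q : Set G))
    (hn : H ⊓ centralizer (Q : Set G) ≤ normalizer (W : Set G)) : W ≤ core p H := by
  have h := le_pPrimeCore_of_centralizes (p := p) (Q.subgroupOf H) (W.subgroupOf H)
    (hQ.of_equiv (subgroupOfEquivOfLe hQH).symm) (by rwa [card_subgroupOf_of_le hWH])
    (fun w hw => mem_centralizer_iff.2 fun q hq => Subtype.ext (mem_centralizer_iff.1 (hWQ hw) q hq))
    (fun c hc => by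
      have h1 : (c : G) ∈ H ⊓ centralizer (Q : Set G) := ⟨c.2, mem_centralizer_iff.2 fun q hq =>
        congrArg Subtype.val (mem_centralizer_iff.1 hc ⟨q, hQH hq⟩ hq)⟩
      refine mem_normalizer_iff.2 fun z => ?_
      simp only [mem_subgroupOf, Subgroup.coe_mul, Subgroup.coe_inv]
      exact mem_normalizer_iff.1 (hn h1) z)
  exact (map_subgroupOf_eq_of_le hWH).ge.trans (Subgroup.map_mono h)

theorem mem_zpowers_mul {x w : G} (h : Commute x w) (hc : (orderOf x).Coprime (orderOf w)) :
    x ∈ zpowers (x * w) := by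
  obtain ⟨m, hm⟩ := exists_pow_eq_self_of_coprime (x := x) hc.symm
  have h1 : (x * w) ^ (orderOf w * m) = x := by
    rw [h.mul_pow, pow_mul, pow_mul w, pow_orderOf_eq_one, one_pow, mul_one, hm]
  have h2 := Subgroup.npow_mem_zpowers (x * w) (orderOf w * m)
  rwa [h1] at h2

namespace MinTwo

variable (hG : MinTwo G)

include hG

theorem nontrivial : Nontrivial G := hG.simple.toNontrivial

theorem not_comm : ¬ IsMulCommutative G := fun h => hG.nonsol (isSolvable_of_comm h.is_comm.comm)

theorem normal_eq {N : Subgroup G} (hN : N.Normal) : N = ⊥ ∨ N = ⊤ :=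
  hG.simple.eq_bot_or_eq_top_of_normal N hN

theorem center_eq_bot : center G = ⊥ := by
  rcases hG.normal_eq (inferInstance : (center G).Normal) with h | h
  · exact h
  · exact absurd ⟨⟨fun a b => (mem_center_iff.1 (h ▸ mem_top b : b ∈ center G) a)⟩⟩ hG.not_comm

theorem centralizer_ne_top {x : G} (hx : x ≠ 1) : centralizer ({x} : Set G) ≠ ⊤ := fun h => by
  have h1 : x ∈ center G := mem_center_iff.2 fun g =>
    mem_centralizer_singleton_iff.1 (h ▸ mem_top g : g ∈ centralizer ({x} : Set G))
  rw [hG.center_eq_bot, mem_bot] at h1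
  exact hx h1

theorem normalizer_ne_top {X : Subgroup G} (h1 : X ≠ ⊥) (h2 : X ≠ ⊤) :
    normalizer (X : Set G) ≠ ⊤ := fun h =>
  (hG.normal_eq (normalizer_eq_top_iff.1 h)).elim h1 h2

theorem ne_top_of_isPGroup {r : ℕ} [Fact r.Prime] {X : Subgroup G} (hX : IsPGroup r X) : X ≠ ⊤ := by
  rintro rfl
  haveI := (hX.of_equiv topEquiv).isNilpotent
  exact hG.nonsol inferInstance

theorem solvable_closure (a b : G) : Group.IsSolvable (closure ({a, b} : Set G)) :=
  hG.proper _ (hG.two a b)

/-- Fundamental consequence: `O_{r'}(C(x)) = 1` for every nontrivial `r`-element `x`. -/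
theorem core_centralizer_eq_bot {r : ℕ} [hr : Fact r.Prime] {x : G} (hx1 : x ≠ 1)
    (hx : IsPGroup r (zpowers x)) : centralizerPPrimeCore r x = ⊥ := by
  haveI := hG.simple
  rw [Subgroup.eq_bot_iff_forall]
  intro w hw
  by_contra hw1
  have hxw : Commute x w :=
    (mem_centralizer_singleton_iff.1 (centralizerPPrimeCore_le_centralizer x hw)).symm
  have hwr : (orderOf w).Coprime r := by
    have h := orderOf_dvd_natCard (⟨w, hw⟩ : centralizerPPrimeCore r x)
    rw [Subgroup.orderOf_mk] at h
    exact Nat.Coprime.coprime_dvd_left h (centralizerPPrimeCore_card_coprime x)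
  obtain ⟨i, hi⟩ := IsPGroup.iff_card.1 hx
  rw [Nat.card_zpowers] at hi
  have hcop : (orderOf x).Coprime (orderOf w) := hi ▸ hwr.symm.pow_left i
  set S : Set G := {g | (orderOf g).Coprime r} with hS
  have hall : ∀ t : G, t ∈ S := by
    refine Cfsg.Lib.PowellGen.mem_of_mul_closed S
      (by show Nat.Coprime _ _; rw [orderOf_one]; exact Nat.coprime_one_left r) ?_ w hw1 ?_
    · intro c g hg
      show (orderOf (c * g * c⁻¹)).Coprime r
      rwa [show c * g * c⁻¹ = MulAut.conj c g from rfl, MulEquiv.orderOf_eq]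
    · intro g hg
      set H := closure ({x * w, g} : Set G) with hH
      haveI : Group.IsSolvable H := hG.solvable_closure _ _
      have hxwH : x * w ∈ H := Subgroup.subset_closure (Or.inl rfl)
      have hxH : x ∈ H := (zpowers_le.2 hxwH) (mem_zpowers_mul hxw hcop)
      have hwH : w ∈ H := by simpa using mul_mem (inv_mem hxH) hxwH
      have hgH : g ∈ H := Subgroup.subset_closure (Or.inr rfl)
      have hw' : w ∈ core r H := by
        refine le_core_of_centralizes (zpowers x) (centralizerPPrimeCore r x ⊓ H)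
          (zpowers_le.2 hxH) inf_le_right hx ?_ ?_ ?_ ⟨hw, hwH⟩
        · exact Nat.Coprime.coprime_dvd_left (card_dvd_of_le inf_le_left)
            (centralizerPPrimeCore_card_coprime x)
        · exact inf_le_left.trans ((centralizerPPrimeCore_le_centralizer x).trans (by
            rw [zpowers_eq_closure, centralizer_closure]))
        · rintro c ⟨hcH, hc⟩
          have hc' : c ∈ centralizer ({x} : Set G) := by
            rwa [zpowers_eq_closure, centralizer_closure] at hc
          refine Cfsg.Lib.Coprime.le_normalizer_inf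
            (centralizer_le_normalizer_centralizerPPrimeCore (p := r) x |>.trans' inf_le_left)
            (le_normalizer.trans' inf_le_right) ⟨hc', hcH⟩
      obtain ⟨z, hz, hzw⟩ := hw'
      have key : ∀ z ∈ pPrimeCore r H, (orderOf (g * (z : G))).Coprime r := by
        intro z hz
        haveI : (pPrimeCore r H).Normal := pPrimeCore_normal' r
        set o := orderOf g
        have h1 : ((⟨g, hgH⟩ * z : H)) ^ o ∈ pPrimeCore r H := by
          rw [← QuotientGroup.eq_one_iff, QuotientGroup.mk_pow, QuotientGroup.mk_mul,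
            (QuotientGroup.eq_one_iff z).2 hz, mul_one, ← QuotientGroup.mk_pow]
          rw [show (⟨g, hgH⟩ : H) ^ o = 1 from Subtype.ext (pow_orderOf_eq_one g)]
          rfl
        have h2 := congrArg Subtype.val (pow_card_eq_one' (G := pPrimeCore r H) (x := ⟨_, h1⟩))
        have h3 : (g * (z : G)) ^ (o * Nat.card (pPrimeCore r H)) = 1 := by
          rw [pow_mul]
          exact congrArg Subtype.val h2
        exact Nat.Coprime.coprime_dvd_left (orderOf_dvd_of_pow_eq_one h3)
          (Nat.Coprime.mul_left hg (coprime_card_pPrimeCore r))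
      rw [← hzw]
      exact ⟨key z hz, key _ (inv_mem hz)⟩
  have h : (orderOf x).Coprime r := hall x
  rw [hi] at h
  rcases Nat.eq_zero_or_pos i with rfl | hipos
  · exact hx1 (orderOf_eq_one_iff.1 (by rw [hi, pow_zero]))
  · exact hr.out.ne_one (Nat.eq_one_of_dvd_coprimes h (dvd_pow_self r hipos.ne') dvd_rfl)

/-- Every local subgroup has trivial `r'`-core. -/
theorem pPrimeCore_normalizer_eq_bot {r : ℕ} [hr : Fact r.Prime] {Q : Subgroup G}
    (hQ : IsPGroup r Q) (hQ1 : Q ≠ ⊥) : pPrimeCore r (normalizer (Q : Set G)) = ⊥ := by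
  suffices H : ∀ N : Subgroup G, N = normalizer (Q : Set G) → pPrimeCore r N = ⊥ from H _ rfl
  intro N hN
  have hQN : Q ≤ N := hN ▸ le_normalizer
  haveI : Nontrivial Q := (nontrivial_iff_ne_bot _).2 hQ1
  haveI := hQ.center_nontrivial
  obtain ⟨⟨⟨x, hxQ⟩, hxc⟩, hx1⟩ := exists_ne (1 : center Q)
  have hx1' : x ≠ 1 := fun h => hx1 (Subtype.ext (Subtype.ext h))
  have hxp : IsPGroup r (zpowers x) := hQ.to_le (zpowers_le.2 hxQ)
  haveI : Group.IsSolvable (centralizer ({x} : Set G)) := hG.proper _ (hG.centralizer_ne_top hx1')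
  have hWQ : core r N ≤ centralizer (Q : Set G) := by
    have hQn : (Q.subgroupOf N).Normal := by subst hN; exact normal_in_normalizer
    have hd : Disjoint (pPrimeCore r N) (Q.subgroupOf N) :=
      (disjoint_iff.2 (coprime_pGroup_disjoint (hQ.of_equiv (subgroupOfEquivOfLe hQN).symm)
        (coprime_card_pPrimeCore r))).symm
    rintro _ ⟨z, hz, rfl⟩
    refine mem_centralizer_iff.2 fun q hq => ?_
    have hc : Commute z (⟨q, hQN hq⟩ : N) := commute_of_normal_of_disjoint _ _
      (pPrimeCore_normal' r) hQn hd z ⟨q, hQN hq⟩ hz hq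
    exact congrArg Subtype.val hc.eq.symm
  have hQL : Q ≤ centralizer ({x} : Set G) := fun q hq => mem_centralizer_singleton_iff.2
    (congrArg Subtype.val (mem_center_iff.1 hxc ⟨q, hq⟩))
  have hWL : core r N ≤ centralizer ({x} : Set G) := fun w hw =>
    mem_centralizer_singleton_iff.2 (mem_centralizer_iff.1 (hWQ hw) x hxQ).symm
  have h := le_core_of_centralizes (H := centralizer ({x} : Set G)) Q (core r N) hQL hWL hQ
    (coprime_core r N) hWQ (fun c hc => le_normalizer_core r N
      (hN ▸ centralizer_le_normalizer (Q : Set G) hc.2))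
  have h0 : core r (centralizer ({x} : Set G)) = ⊥ := hG.core_centralizer_eq_bot hx1' hxp
  rw [h0, le_bot_iff, core, Subgroup.map_eq_bot_iff_of_injective _ N.subtype_injective] at h
  exact h

theorem pCore_map_ne {M : Subgroup G} {r : ℕ} (h : pCore r M ≠ ⊥) :
    (pCore r M).map M.subtype ≠ ⊥ := fun e =>
  h ((Subgroup.map_eq_bot_iff_of_injective _ M.subtype_injective).1 e)

theorem normalizer_pCore {M : Subgroup G} (hM : IsCoatom M) {r : ℕ} [Fact r.Prime]
    (h : pCore r M ≠ ⊥) : normalizer (((pCore r M).map M.subtype : Subgroup G) : Set G) = M := by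
  haveI : (pCore r M).Normal := pCore_normal' r
  have hle : M ≤ normalizer (((pCore r M).map M.subtype : Subgroup G) : Set G) := by
    intro m hm
    refine mem_normalizer_of_conj_mem ?_ ?_
    · rintro _ ⟨z, hz, rfl⟩
      exact ⟨⟨m, hm⟩ * z * ⟨m, hm⟩⁻¹, Subgroup.Normal.conj_mem inferInstance z hz _, rfl⟩
    · rintro _ ⟨z, hz, rfl⟩
      exact ⟨⟨m, hm⟩⁻¹ * z * ⟨m, hm⟩, by
        simpa using (inferInstance : (pCore r M).Normal).conj_mem z hz ⟨m, hm⟩⁻¹, rfl⟩
  refine (hM.le_iff.1 hle).resolve_left (fun h1 => ?_)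
  exact hG.normalizer_ne_top (hG.pCore_map_ne h)
    (fun h2 => hM.1 (top_le_iff.1 (h2 ▸ map_subtype_le _))) h1

/-- Every maximal subgroup has a type `r`. -/
theorem pPrimeCore_coatom_eq_bot {M : Subgroup G} (hM : IsCoatom M) {r : ℕ} [Fact r.Prime]
    (h : pCore r M ≠ ⊥) : pPrimeCore r M = ⊥ := by
  have h1 := hG.pPrimeCore_normalizer_eq_bot ((isPGroup_pCore (G := M) r).map M.subtype)
    (hG.pCore_map_ne h)
  rwa [hG.normalizer_pCore hM h] at h1

theorem exists_type {M : Subgroup G} (hM : IsCoatom M) :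
    ∃ r : ℕ, r.Prime ∧ pCore r M ≠ ⊥ := by
  haveI : Group.IsSolvable M := hG.proper _ hM.1
  haveI : Nontrivial M := by
    rw [nontrivial_iff_ne_bot]
    rintro rfl
    haveI := hG.nontrivial
    obtain ⟨g, hg⟩ := exists_ne (1 : G)
    have h1 : zpowers g = ⊤ := hM.2 _ (bot_lt_iff_ne_bot.2 (by rwa [Ne, zpowers_eq_bot]))
    exact hG.two g g (top_le_iff.1 (h1 ▸ zpowers_le.2 (Subgroup.subset_closure (Or.inl rfl))))
  by_contra hcon
  push Not at hcon
  apply Cfsg.Lib.Coprime.fitting_ne_bot (G := M)
  rw [fitting_eq_iSup_pCore, iSup_eq_bot]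
  intro q
  exact hcon q.1 q.2

end MinTwo

end Cfsg.Lib.TwoGen
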