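import Cfsg.Agent.TwoGen.Control
import Cfsg.Agent.Components.PxQ
import Cfsg.Agent.S1443

/-!
An element `e` of `Z(J(P))` acts on a `p'`-subgroup normalized by it either trivially or without
fixed points.
-/

set_option autoImplicit false
set_option linter.unusedSectionVars false
set_option linter.style.haveILetI false

namespace Cfsg.Lib.TwoGen

open Subgroup Cfsg.Lib.Components Cfsg.Lib.Coprime
open scoped commutatorElement

universe u

variable {G : Type u} [Group G]

/-- The subgroup generated by the `⟨e⟩`-orbit of `w`. -/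
def orb (e w : G) : Subgroup G := closure (Set.range fun k : ℤ => e ^ k * w * (e ^ k)⁻¹)

theorem self_mem_orb (e w : G) : w ∈ orb e w := subset_closure ⟨0, by simp⟩

theorem orb_le {e w : G} {R : Subgroup G} (he : e ∈ normalizer (R : Set G)) (hw : w ∈ R) :
    orb e w ≤ R := by
  rw [orb, closure_le]
  rintro _ ⟨k, rfl⟩
  exact (mem_normalizer_iff.1 (zpow_mem he k) w).1 hw

theorem mem_normalizer_orb (e w : G) : e ∈ normalizer (orb e w : Set G) := by
  have key : ∀ n : ℤ, (orb e w).map (MulAut.conj (e ^ n)).toMonoidHom ≤ orb e w := fun n => by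
    rw [orb, MonoidHom.map_closure, closure_le]
    rintro _ ⟨_, ⟨k, rfl⟩, rfl⟩
    refine subset_closure ⟨n + k, ?_⟩
    simp only [zpow_add, mul_inv_rev, MulEquiv.coe_toMonoidHom, MulAut.conj_apply, mul_assoc]
  refine mem_normalizer_of_conj_mem (fun x hx => ?_) fun x hx => ?_
  · have := key 1 ⟨x, hx, rfl⟩
    simpa using this
  · have := key (-1) ⟨x, hx, rfl⟩
    simpa using this

/-- Conjugation by a normalizing element, with fixed point free action, is onto on commutators. -/
theorem fpf_surj [Finite G] {X : Subgroup G} {g : G} (hg : g ∈ normalizer (X : Set G))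
    (hfpf : ∀ x ∈ X, g * x = x * g → x = 1) {u : G} (hu : u ∈ X) :
    ∃ a ∈ X, g * a * g⁻¹ * a⁻¹ = u := by
  let φ : X → X := fun a => ⟨g * a * g⁻¹ * (a : G)⁻¹,
    mul_mem ((mem_normalizer_iff.1 hg a).1 a.2) (inv_mem a.2)⟩
  have hinj : Function.Injective φ := by
    intro a b h
    have h1 : g * a * g⁻¹ * (a : G)⁻¹ = g * b * g⁻¹ * (b : G)⁻¹ := congrArg Subtype.val h
    have h2 := hfpf ((b : G)⁻¹ * a) (mul_mem (inv_mem b.2) a.2) (by
      calc g * ((b : G)⁻¹ * a)
          = g * (b : G)⁻¹ * g⁻¹ * ((g * a * g⁻¹ * (a : G)⁻¹) * a) * g := by group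
        _ = g * (b : G)⁻¹ * g⁻¹ * ((g * b * g⁻¹ * (b : G)⁻¹) * a) * g := by rw [h1]
        _ = _ := by group)
    exact (Subtype.ext (inv_mul_eq_one.1 h2)).symm
  obtain ⟨a, ha⟩ := Finite.surjective_of_injective hinj ⟨u, hu⟩
  exact ⟨a, a.2, congrArg Subtype.val ha⟩

variable [Finite G] {p : ℕ} [hp : Fact p.Prime]

theorem eq_one_of_pGroup_coprime {X Y : Subgroup G} (hX : IsPGroup p X)
    (hY : (Nat.card Y).Coprime p) {x : G} (hxX : x ∈ X) (hxY : x ∈ Y) : x = 1 :=
  mem_bot.1 (coprime_pGroup_disjoint hX hY ▸ (⟨hxX, hxY⟩ : x ∈ X ⊓ Y))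

theorem coprime_orderOf {Y : Subgroup G} (hY : (Nat.card Y).Coprime p) {y : G} (hy : y ∈ Y) :
    (orderOf y).Coprime p :=
  Nat.Coprime.coprime_dvd_left (Nat.card_zpowers y ▸ card_dvd_of_le (zpowers_le.2 hy)) hY

theorem coprime_rGroup {r : ℕ} [Fact r.Prime] (hrp : r ≠ p) {R : Subgroup G} (hR : IsPGroup r R) :
    (Nat.card R).Coprime p := by
  obtain ⟨i, hi⟩ := IsPGroup.iff_card.1 hR
  rw [hi]
  exact Nat.Coprime.pow_left i ((Nat.coprime_primes Fact.out hp.out).2 hrp)

omit [Finite G] in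
theorem zpowers_eq_of_mem {e f : G} (he : orderOf e = p) (hf : f ∈ zpowers e) (hf1 : f ≠ 1) :
    zpowers f = zpowers e := by
  haveI : Fact (orderOf e).Prime := ⟨he ▸ hp.out⟩
  obtain ⟨k, rfl⟩ := mem_zpowers_iff.1 hf
  refine le_antisymm (zpowers_le.2 hf) (zpowers_le.2 ?_)
  have hk : ¬ (p : ℤ) ∣ k := fun ⟨c, hc⟩ => hf1 (by
    rw [hc, zpow_mul, zpow_natCast, ← he, pow_orderOf_eq_one, one_zpow])
  have hco : IsCoprime (p : ℤ) k :=
    (Nat.prime_iff_prime_int.1 hp.out).coprime_iff_not_dvd.2 hk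
  obtain ⟨a, b, hab⟩ := hco
  refine mem_zpowers_iff.2 ⟨b, ?_⟩
  rw [← zpow_mul]
  conv_rhs => rw [← zpow_one e, ← hab, zpow_add, mul_comm a, zpow_mul, zpow_natCast, ← he,
    pow_orderOf_eq_one, one_zpow, one_mul, mul_comm b]

namespace MinTwo

variable (hG : MinTwo G) (hp5 : 5 ≤ p) (hpG : p ∣ Nat.card G) {P : Sylow p G} {e : G}
  (he : e ∈ zj P) (heo : orderOf e = p)

include hG hp5 hpG he heo

theorem centralizer_e_le : centralizer ({e} : Set G) ≤ nzj P :=
  hG.centralizer_le_nzj hp5 hpG (ne_one_of_orderOf heo) (isPGroup_zpowers heo) (le_normalizer he)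

theorem isOther_of_mem {M : Subgroup G} (hM : IsCoatom M) (heM : e ∈ M) (hne : M ≠ nzj P) :
    IsOther p M :=
  ⟨hM, fun R hR => hne (by
    rw [hR, nzj, nzj, hG.zj_eq_of_normalizes hp5 hpG (ne_one_of_orderOf heo) (isPGroup_zpowers heo)
      (hR ▸ heM : e ∈ nzj R) (le_normalizer he)])⟩

/-- In an other maximal subgroup the only elements `q` with `q ^ p = 1` centralizing `e` are
in `⟨e⟩`. -/
theorem mem_zpowers_of_commute {M : Subgroup G} (hM : IsOther p M) (heM : e ∈ M) {q : G}
    (hqM : q ∈ M) (hc : e * q = q * e) (hq : q ^ p = 1) : q ∈ zpowers e := by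
  by_cases h1 : q = 1
  · rw [h1]; exact one_mem _
  have hqo : orderOf q = p := orderOf_eq_prime hq h1
  have hqn : zpowers q ≤ normalizer (zpowers e : Set G) := by
    rw [zpowers_le]
    refine centralizer_le_normalizer _ ?_
    rw [zpowers_eq_closure, centralizer_closure]
    exact mem_centralizer_singleton_iff.2 hc.symm
  have hX : IsPGroup p ↥(zpowers q ⊔ zpowers e) :=
    (isPGroup_zpowers hqo).to_sup_of_normal_right' (isPGroup_zpowers heo) hqn
  have h := hG.zpowers_eq_of_sylow hp5 hpG hM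
    (sup_le (zpowers_le.2 hqM) (zpowers_le.2 heM)) hX
    (mem_sup_left (mem_zpowers q)) (mem_sup_right (mem_zpowers e)) hqo heo
  exact h ▸ mem_zpowers q

/-- Some element of order `p` of `Z(J(P))` moves a given `p'`-element centralizing `e`. -/
theorem exists_moving {y : G} (hy1 : y ≠ 1) (hy : (orderOf y).Coprime p) (hc : e * y = y * e) :
    ∃ d ∈ zj P, d ^ p = 1 ∧ d * y ≠ y * d := by
  by_contra hcon
  push Not at hcon
  have hyN : y ∈ nzj P :=
    hG.centralizer_e_le hp5 hpG he heo (mem_centralizer_singleton_iff.2 hc.symm)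
  haveI := hG.proper _ (hG.nzj_ne_top hp5 hpG P)
  haveI : (pCore p (nzj P)).Normal := pCore_normal' p
  set yy : nzj P := ⟨y, hyN⟩ with hyy
  have hfix : zpowers yy ≤ centralizer (pCore p (nzj P) : Set (nzj P)) := by
    refine Cfsg.Agent.S1443.result p (by omega) (pCore p (nzj P)) ⊥ (zpowers yy)
      (isPGroup_pCore p) bot_le
      ⟨⟨⟨fun a b => Subsingleton.elim _ _⟩⟩, fun a ha => by rw [mem_bot.1 ha, one_pow]⟩
      (by rw [normalizer_eq_top_iff.2 inferInstance]; exact le_top)
      (by rwa [Nat.card_zpowers, ← orderOf_coe, hyy]) ?_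
    rintro ⟨x, hxN⟩ hx hxo
    rw [← orderOf_coe] at hxo
    have hP : (pCore p (nzj P)).map (nzj P).subtype ≤ (P : Subgroup G) := by
      refine (map_pCore_le_sylow (P.subtype (sylow_le_nzj P))).trans ?_
      rw [Sylow.coe_subtype, map_subgroupOf_eq_of_le (sylow_le_nzj P)]
    have hxz : x ∈ zj P := hG.orderOf_mem_zj hp5 hpG (hP ⟨_, hx.1, rfl⟩) hxo
    rw [zpowers_le]
    refine mem_centralizer_singleton_iff.2 (Subtype.ext ?_)
    exact (hcon x hxz (hxo ▸ pow_orderOf_eq_one x)).symm
  have h := (Cfsg.Lib.Coprime.centralizer_pCore_le p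
    (hG.pPrimeCore_normalizer_eq_bot (isPGroup_zj P) (zj_ne_bot hpG P))) (hfix (mem_zpowers yy))
  refine hy1 (congrArg Subtype.val (eq_one_of_pGroup_coprime (isPGroup_pCore (G := nzj P) p)
    (Y := zpowers yy) ?_ h (mem_zpowers yy)))
  rwa [Nat.card_zpowers, ← orderOf_coe, hyy]

/-- No `p'`-element centralizing `e` lies in the subgroup generated by the orbit of an element
moved by `e`. -/
theorem moved_fix {w y : G} (hw : e * w ≠ w * e) (hyw : y ∈ orb e w) (hy1 : y ≠ 1)
    (hc : e * y = y * e) (hY : (Nat.card (orb e w)).Coprime p) : False := by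
  have hyo : (orderOf y).Coprime p := coprime_orderOf hY hyw
  obtain ⟨d, hd, hdp, hdy⟩ := hG.exists_moving hp5 hpG he heo hy1 hyo hc
  set z := d * y * d⁻¹ with hz
  have hed : Commute e d := zj_comm P he hd
  have hez : Commute e z := (hed.mul_right hc).mul_right hed.inv_right
  have hzo : orderOf z = orderOf y := MulEquiv.orderOf_eq (MulAut.conj d) y
  have hco : (orderOf e).Coprime (orderOf z) := by rw [heo, hzo]; exact hyo.symm
  obtain ⟨M, hM, hezM, hwM⟩ := hG.exists_maximal hp5 hpG (e * z) w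
  have heM : e ∈ M := zpowers_le.2 hezM (mem_zpowers_mul hez hco)
  have hzM : z ∈ M := by simpa using mul_mem (inv_mem heM) hezM
  have hyM : y ∈ M := orb_le (le_normalizer heM) hwM hyw
  have hyN : y ∈ nzj P :=
    hG.centralizer_e_le hp5 hpG he heo (mem_centralizer_singleton_iff.2 hc.symm)
  by_cases hMN : M = nzj P
  · have h1 : w * e * w⁻¹ * e⁻¹ ∈ zj P :=
      mul_mem ((mem_normalizer_iff.1 (hMN ▸ hwM : w ∈ nzj P) e).1 he) (inv_mem he)
    have h2 : w * (e * w⁻¹ * e⁻¹) ∈ orb e w :=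
      mul_mem (self_mem_orb e w)
        ((mem_normalizer_iff.1 (mem_normalizer_orb e w) w⁻¹).1 (inv_mem (self_mem_orb e w)))
    have h3 : w * (e * w⁻¹ * e⁻¹) = 1 :=
      eq_one_of_pGroup_coprime (isPGroup_zj P) hY (by simpa [mul_assoc] using h1) h2
    apply hw
    have h4 : w * e * w⁻¹ * e⁻¹ = 1 := by simpa [mul_assoc] using h3
    rw [mul_inv_eq_one, mul_inv_eq_iff_eq_mul] at h4
    exact h4.symm
  · have hMo := hG.isOther_of_mem hp5 hpG he heo hM heM hMN
    have hq : y⁻¹ * z ∈ zpowers e := by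
      refine hG.mem_zpowers_of_commute hp5 hpG he heo hMo heM (mul_mem (inv_mem hyM) hzM)
        ((Commute.inv_right hc).mul_right hez) ?_
      have h1 : y⁻¹ * d * y ∈ zj P := (mem_normalizer_iff''.1 hyN d).1 hd
      rw [show y⁻¹ * z = (y⁻¹ * d * y) * d⁻¹ by rw [hz]; group,
        (show Commute (y⁻¹ * d * y) d⁻¹ from zj_comm P h1 (inv_mem hd)).mul_pow, inv_pow, hdp,
        inv_one, mul_one]
      have h2 := conj_pow (i := p) (a := y⁻¹) (b := d)
      rw [inv_inv] at h2
      rw [h2, hdp, mul_one, inv_mul_cancel]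
    set q := y⁻¹ * z with hqd
    have hzq : z = y * q := by rw [hqd, mul_inv_cancel_left]
    have hyq : Commute y q := by
      obtain ⟨i, hi⟩ := mem_zpowers_iff.1 hq
      rw [← hi]
      exact (show Commute y e from hc.symm).zpow_right i
    have hqy : q ^ orderOf y = 1 := by
      have h1 := pow_orderOf_eq_one z
      rwa [hzo, hzq, hyq.mul_pow, pow_orderOf_eq_one, one_mul] at h1
    have hqp : q ^ p = 1 := by
      obtain ⟨i, hi⟩ := mem_zpowers_iff.1 hq
      rw [← hi, ← zpow_natCast, ← zpow_mul, mul_comm, zpow_mul, zpow_natCast, ← heo,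
        pow_orderOf_eq_one, one_zpow]
    have hq1 : q = 1 := by
      have h1 := pow_gcd_eq_one.2 ⟨hqy, hqp⟩
      rwa [hyo.gcd_eq_one, pow_one] at h1
    rw [hq1, mul_one] at hzq
    rw [hz, mul_inv_eq_iff_eq_mul] at hzq
    exact hdy hzq

/-- On a `p'`-subgroup of prime power order `e` acts trivially or fixed point freely. -/
theorem fixed_or_fpf {r : ℕ} [hr : Fact r.Prime] (hrp : r ≠ p) :
    ∀ (R : Subgroup G), IsPGroup r R → e ∈ normalizer (R : Set G) →
      ∀ y ∈ R, e * y = y * e → y ≠ 1 → ∀ v ∈ R, e * v = v * e := by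
  intro R
  induction' hn : Nat.card R using Nat.strong_induction_on with n ih generalizing R
  intro hR heR y hyR hyc hy1 v hvR
  by_contra hv
  have IH : ∀ X : Subgroup G, X ≤ R → X ≠ R → e ∈ normalizer (X : Set G) →
      ∀ y' ∈ X, e * y' = y' * e → y' ≠ 1 → ∀ v' ∈ X, e * v' = v' * e := by
    intro X hXR hne heX
    refine ih _ ?_ X rfl (hR.to_le hXR) heX
    rw [← hn]
    exact lt_of_le_of_ne (card_le_of_le hXR)
      fun h => hne (Subgroup.eq_of_le_of_card_ge hXR h.ge)
  have horb : ∀ w ∈ R, e * w ≠ w * e → orb e w ≠ R := by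
    intro w hw hwc h
    exact hG.moved_fix hp5 hpG he heo hwc (y := y) (h ▸ hyR) hy1 hyc
      (coprime_rGroup hrp (hR.to_le (orb_le heR hw)))
  haveI : (frattini R).Characteristic := inferInstance
  have hFn : (frattini R).Normal := inferInstance
  set π := QuotientGroup.mk' (frattini R) with hπ
  set c : MulAut R := R.normalizerMonoidHom ⟨e, heR⟩ with hcdef
  have hcapply : ∀ (k : ℕ) (a : R), ((c ^ k) a : G) = e ^ k * a * (e ^ k)⁻¹ := by
    intro k
    induction k with
    | zero => intro a; simp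
    | succ k ih =>
      intro a
      rw [pow_succ, MulAut.mul_apply, ih]
      show e ^ k * (e * (a : G) * e⁻¹) * (e ^ k)⁻¹ = _
      group
  have hcF : ∀ (k : ℕ) (f : R), f ∈ frattini R → (c ^ k) f ∈ frattini R := fun k f hf =>
    (characteristic_iff_map_le.1 inferInstance (c ^ k)) ⟨f, hf, rfl⟩
  by_cases hyF : (⟨y, hyR⟩ : R) ∈ frattini R
  · -- all of `R` is generated by the orbit of a moved element
    have hne : orb e v ⊔ (frattini R).map R.subtype = R := by
      by_contra hne
      refine hv (IH _ (sup_le (orb_le heR hvR) (map_subtype_le _)) hne ?_ y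
        (mem_sup_right ⟨_, hyF, rfl⟩) hyc hy1 v (mem_sup_left (self_mem_orb e v)))
      refine mem_normalizer_of_conj_mem (fun x hx => ?_) fun x hx => ?_
      · have h : x ∈ (orb e v ⊔ (frattini R).map R.subtype) := hx
        have h2 : (orb e v ⊔ (frattini R).map R.subtype).map (MulAut.conj e).toMonoidHom ≤
            orb e v ⊔ (frattini R).map R.subtype := by
          rw [Subgroup.map_sup]
          refine sup_le_sup (le_of_eq (Cfsg.Lib.Coprime.conjMap_eq_self (mem_normalizer_orb e v))) ?_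
          rintro _ ⟨_, ⟨f, hf, rfl⟩, rfl⟩
          refine ⟨(c ^ 1) f, hcF 1 f hf, ?_⟩
          rw [subtype_apply, hcapply]; simp
        simpa using h2 ⟨x, h, rfl⟩
      · have h2 : (orb e v ⊔ (frattini R).map R.subtype).map (MulAut.conj e⁻¹).toMonoidHom ≤
            orb e v ⊔ (frattini R).map R.subtype := by
          rw [Subgroup.map_sup]
          refine sup_le_sup (le_of_eq (Cfsg.Lib.Coprime.conjMap_eq_self
            (inv_mem (mem_normalizer_orb e v)))) ?_
          rintro _ ⟨_, ⟨f, hf, rfl⟩, rfl⟩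
          refine ⟨(c ^ (orderOf e - 1)) f, hcF _ f hf, ?_⟩
          have h1 : e ^ (orderOf e - 1) = e⁻¹ := eq_inv_of_mul_eq_one_left (by
            rw [← pow_succ, Nat.sub_add_cancel (orderOf_pos e), pow_orderOf_eq_one])
          rw [subtype_apply, hcapply, h1]; simp
        simpa using h2 ⟨x, hx, rfl⟩
    refine horb v hvR hv ?_
    have h1 : (orb e v).subgroupOf R ⊔ frattini R = ⊤ := by
      rw [← (Subgroup.map_injective R.subtype_injective).eq_iff, Subgroup.map_sup,
        map_subgroupOf_eq_of_le (orb_le heR hvR), hne, ← MonoidHom.range_eq_map, range_subtype]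
    exact le_antisymm (orb_le heR hvR) (subgroupOf_eq_top.1 (frattini_nongenerating h1))
  · set x := e * v * e⁻¹ * v⁻¹ with hx
    have hxR : x ∈ R := mul_mem ((mem_normalizer_iff.1 heR v).1 hvR) (inv_mem hvR)
    have hxmov : e * x ≠ x * e := fun h => hv (centralize_of_commutator_fixed hR
      (by rw [heo]; exact (Nat.coprime_primes hp.out hr.out).2 hrp.symm) heR hvR
      (by rw [commutatorElement_def, ← hx]; rw [h, mul_inv_cancel_right]))
    have hwmov : e * (y * x) ≠ (y * x) * e := fun h => hxmov (by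
      have h1 : Commute e (y⁻¹ * (y * x)) := (Commute.inv_right hyc).mul_right h
      rwa [inv_mul_cancel_left] at h1)
    set Y := orb e (y * x) with hY
    have hYR : Y ≤ R := orb_le heR (mul_mem hyR hxR)
    have hfpf : ∀ a ∈ Y, e * a = a * e → a = 1 := fun a ha hac => by
      by_contra ha1
      exact hwmov (IH Y hYR (horb _ (mul_mem hyR hxR) hwmov) (mem_normalizer_orb e _) a ha hac ha1
        _ (self_mem_orb e _))
    obtain ⟨u, hu, hue⟩ := fpf_surj (mem_normalizer_orb e (y * x)) hfpf (self_mem_orb e (y * x))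
    have hcomm : ∀ a b : R, π a * π b = π b * π a := fun a b => by
      rw [← map_mul, ← map_mul]
      refine QuotientGroup.eq.2 (Cfsg.Lib.PGroups.commutator_le_frattini hR ?_)
      rw [show (a * b)⁻¹ * (b * a) = ⁅b⁻¹, a⁻¹⁆ by rw [commutatorElement_def]; group]
      exact commutator_mem_commutator (mem_top _) (mem_top _)
    -- `a = v⁻¹ * u` satisfies `c a ≡ y * a`
    set yy : R := ⟨y, hyR⟩ with hyy
    set uu : R := ⟨u, hYR hu⟩ with huu
    set vv : R := ⟨v, hvR⟩ with hvv
    have h1 : π (c uu) * (π uu)⁻¹ = π yy * (π (c vv) * (π vv)⁻¹) := by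
      rw [← map_inv, ← map_mul, ← map_inv, ← map_mul, ← map_mul]
      exact congrArg π (Subtype.ext hue)
    have h2 : π (c (vv⁻¹ * uu)) = π yy * π (vv⁻¹ * uu) := by
      simp only [map_mul, map_inv]
      calc (π (c vv))⁻¹ * π (c uu)
          = (π (c vv))⁻¹ * (π (c uu) * (π uu)⁻¹ * π uu) := by group
        _ = (π (c vv))⁻¹ * (π yy * (π (c vv) * (π vv)⁻¹) * π uu) := by rw [h1]
        _ = ((π (c vv))⁻¹ * π yy) * π (c vv) * ((π vv)⁻¹ * π uu) := by group
        _ = (π yy * (π (c vv))⁻¹) * π (c vv) * ((π vv)⁻¹ * π uu) := by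
            rw [← map_inv π (c vv), hcomm]
        _ = _ := by group
    set a := vv⁻¹ * uu with ha
    have hstep : ∀ k : ℕ, π ((c ^ k) a) = π yy ^ k * π a := by
      intro k
      induction k with
      | zero => simp
      | succ k ih =>
        obtain ⟨f, hf, hfe⟩ : ∃ f ∈ frattini R, c a = yy * a * f :=
          ⟨(yy * a)⁻¹ * c a, QuotientGroup.eq.1 (by
            show π (yy * a) = π (c a)
            rw [h2, map_mul]), by group⟩
        have hy2 : (c ^ k) yy = yy := Subtype.ext (by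
          rw [hcapply, hyy]
          rw [(Commute.pow_left hyc k).eq, mul_inv_cancel_right])
        rw [pow_succ c k, MulAut.mul_apply, hfe]
        simp only [map_mul, hy2]
        rw [ih,
          show π ((c ^ k) f) = 1 from (QuotientGroup.eq_one_iff _).2 (hcF k f hf), mul_one,
          pow_succ', mul_assoc]
    have hcp : (c ^ p) a = a := Subtype.ext (by
      rw [hcapply, ← heo, pow_orderOf_eq_one]; simp)
    have h3 := hstep p
    rw [hcp, eq_comm, mul_eq_right] at h3
    obtain ⟨i, hi⟩ := hR ⟨y, hyR⟩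
    have h4 : π yy ^ r ^ i = 1 := by rw [← map_pow, hyy, hi, map_one]
    have h5 := pow_gcd_eq_one.2 ⟨h3, h4⟩
    rw [(Nat.Coprime.pow_right i ((Nat.coprime_primes hp.out hr.out).2 hrp.symm)).gcd_eq_one,
      pow_one] at h5
    exact hyF ((QuotientGroup.eq_one_iff yy).1 h5)

end MinTwo

end Cfsg.Lib.TwoGen
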