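import Cfsg.Agent.TwoGen.Other

/-!
An other maximal subgroup is the normalizer of the Thompson subgroup of a Sylow subgroup of `G`
for its type, so two of them of the same type are conjugate under `N(⟨e⟩)`.
-/

set_option autoImplicit false
set_option linter.unusedSectionVars false
set_option linter.style.haveILetI false

namespace Cfsg.Lib.TwoGen

open Subgroup Cfsg.Lib.Components Cfsg.Lib.Coprime

universe u

variable {G : Type u} [Group G] [Finite G] {p : ℕ} [hp : Fact p.Prime]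

/-- A fixed point free element of order `p` forces order `≡ 1 (mod p)`. -/
theorem card_modEq_one {X : Subgroup G} {e : G} (heo : orderOf e = p)
    (heX : e ∈ normalizer (X : Set G)) (hfpf : ∀ x ∈ X, e * x = x * e → x = 1) :
    Nat.card X ≡ 1 [MOD p] := by
  letI : MulAction (zpowers e) X := MulAction.compHom X (Subgroup.inclusion (zpowers_le.2 heX))
  have h := (isPGroup_zpowers heo).card_modEq_card_fixedPoints X
  have hfix : MulAction.fixedPoints (zpowers e) X = {1} := by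
    refine Set.ext fun x => ⟨fun hx => ?_, fun hx => ?_⟩
    · have h1 : e * (x : G) * e⁻¹ = x := congrArg Subtype.val (hx ⟨e, mem_zpowers e⟩)
      exact Subtype.ext (hfpf x x.2 (mul_inv_eq_iff_eq_mul.1 h1))
    · rw [Set.mem_singleton_iff] at hx
      subst hx
      intro g
      refine Subtype.ext ?_
      show (g : G) * 1 * (g : G)⁻¹ = 1
      group
  rwa [hfix, Nat.card_eq_fintype_card (α := ({1} : Set X)), Set.card_singleton] at h

theorem arith_false {r k : ℕ} (hr : r.Prime) (hp5 : 5 ≤ p) (hk : k = 1 ∨ k = 2)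
    (hrp : r ∣ p - 1) (h : r ^ k ≡ 1 [MOD p]) : False := by
  have hP := hp.out
  have hr2 := hr.two_le
  have hrle : r ≤ p - 1 := Nat.le_of_dvd (by omega) hrp
  have hd : p ∣ r ^ k - 1 := (Nat.modEq_iff_dvd' (Nat.one_le_pow _ _ hr.pos)).1 h.symm
  rcases hk with rfl | rfl
  · rw [pow_one] at hd
    have := Nat.le_of_dvd (by omega) hd
    omega
  · rw [show r ^ 2 - 1 = (r + 1) * (r - 1) by simpa using Nat.sq_sub_sq r 1] at hd
    rcases hP.dvd_mul.1 hd with h1 | h1
    · have h2 := Nat.le_of_dvd (by omega) h1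
      have hpe : p = r + 1 := by omega
      rcases hP.eq_two_or_odd with h3 | h3
      · omega
      rcases hr.eq_two_or_odd with h4 | h4 <;> omega
    · have := Nat.le_of_dvd (by omega) h1
      omega

namespace MinTwo

variable (hG : MinTwo G) (hp5 : 5 ≤ p) (hpG : p ∣ Nat.card G) {P : Sylow p G} {e : G}
  (he : e ∈ zj P) (heo : orderOf e = p) {M : Subgroup G} (hM : IsOther p M) (heM : e ∈ M)

include hG hp5 hpG he heo hM heM

/-- The largest elementary abelian subgroups of an `r`-subgroup of `M` containing `O_{p'}(M)`,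
an `r`-group, lie in it. -/
theorem maxElem_le_core {r : ℕ} [hr : Fact r.Prime] (hrU : IsPGroup r (core p M)) {S : Subgroup G}
    (hS : IsPGroup r S) (hUS : core p M ≤ S) (hSM : S ≤ M) {A : Subgroup G}
    (hA : Cfsg.Lib.Thompson.IsMaxElem r S A) : A ≤ core p M := by
  by_contra hAU
  obtain ⟨a, haA, haU⟩ := SetLike.not_le_iff_exists.1 hAU
  have hAM : A ≤ M := hA.1.trans hSM
  haveI := hA.2.1.1
  haveI : (pPrimeCore p M).Normal := pPrimeCore_normal' p
  haveI hVn : (pCore p (M ⧸ pPrimeCore p M)).Normal := pCore_normal' p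
  obtain ⟨heV, hline⟩ := hG.quot_spec hp5 hpG he heo hM heM
  set f := QuotientGroup.mk' (pPrimeCore p M) with hf
  set eb := f ⟨e, heM⟩ with heb
  have hker : ∀ x : M, f x = 1 → (x : G) ∈ core p M := fun x h =>
    ⟨x, (QuotientGroup.eq_one_iff x).1 h, rfl⟩
  have hebp : eb ^ p = 1 := by
    rw [heb, ← map_pow, show (⟨e, heM⟩ : M) ^ p = 1 from
      Subtype.ext (by rw [SubmonoidClass.coe_pow]; exact pow_p_eq_one heo), map_one]
  have heb1 : eb ≠ 1 := fun h => hG.not_mem_core hp5 hpG he heo hM heM (hker _ h)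
  haveI hLn : (zpowers eb).Normal := by
    refine ⟨fun x hx g => ?_⟩
    obtain ⟨i, rfl⟩ := mem_zpowers_iff.1 hx
    have h1 : g * eb * g⁻¹ ∈ zpowers eb := hline _ (hVn.conj_mem _ heV g) (by
      rw [conj_pow, hebp, mul_one, mul_inv_cancel])
    rw [← conj_zpow]
    exact zpow_mem h1 i
  set θ : A →* MulAut (zpowers eb) :=
    (MulAut.conjNormal (H := zpowers eb)).comp (f.comp (Subgroup.inclusion hAM)) with hθ
  have hθapp : ∀ x : A, ((θ x ⟨eb, mem_zpowers eb⟩ : zpowers eb) : M ⧸ pPrimeCore p M)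
      = f (Subgroup.inclusion hAM x) * eb * (f (Subgroup.inclusion hAM x))⁻¹ := fun x => by
    rw [hθ, MonoidHom.comp_apply, MulAut.conjNormal_apply]; rfl
  have hkerθ : ∀ x : A, θ x = 1 → (x : G) ∈ core p M := by
    intro x hx
    have hc : f (Subgroup.inclusion hAM x) * eb * (f (Subgroup.inclusion hAM x))⁻¹ = eb := by
      rw [← hθapp, hx]; rfl
    have hxM : (x : G) ∈ M := hAM x.2
    obtain ⟨u, hu, hun⟩ := hG.exists_split hp5 hpG he heo hM heM hxM
    have huM := core_le p M hu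
    set n := u⁻¹ * (x : G) with hn
    have hnM : n ∈ M := mul_mem (inv_mem huM) hxM
    have hfu : f ⟨u, huM⟩ = 1 := by
      obtain ⟨z, hz, hzu⟩ := hu
      exact (QuotientGroup.eq_one_iff _).2 ((show (⟨u, huM⟩ : M) = z from Subtype.ext hzu.symm) ▸ hz)
    have hfn : f ⟨n, hnM⟩ = f (Subgroup.inclusion hAM x) := by
      rw [show (⟨n, hnM⟩ : M) = (⟨u, huM⟩)⁻¹ * ⟨x, hxM⟩ from rfl, map_mul, map_inv, hfu, inv_one,
        one_mul]
      rfl
    have ht : n * e * n⁻¹ * e⁻¹ ∈ core p M := by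
      refine hker ⟨n * e * n⁻¹ * e⁻¹,
        mul_mem (mul_mem (mul_mem hnM heM) (inv_mem hnM)) (inv_mem heM)⟩ ?_
      rw [show (⟨n * e * n⁻¹ * e⁻¹, _⟩ : M) =
        ⟨n, hnM⟩ * ⟨e, heM⟩ * (⟨n, hnM⟩)⁻¹ * (⟨e, heM⟩)⁻¹ from rfl, map_mul, map_mul, map_mul,
        map_inv, map_inv, hfn, ← heb, hc, mul_inv_cancel]
    have ht1 : n * e * n⁻¹ * e⁻¹ = 1 :=
      eq_one_of_pGroup_coprime (isPGroup_zpowers heo) (coprime_core p M)
        (mul_mem ((mem_normalizer_iff.1 hun e).1 (mem_zpowers e)) (inv_mem (mem_zpowers e))) ht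
    rw [mul_inv_eq_one, mul_inv_eq_iff_eq_mul] at ht1
    have hxr : x ^ r = 1 := Subtype.ext (hA.2.1.2 x x.2)
    have hnr : n ^ r = 1 := by
      refine hG.core_fpf hp5 hpG he heo hM heM _ (hker ⟨n ^ r, pow_mem hnM r⟩ ?_)
        ((show Commute e n from ht1.symm).pow_right r).eq
      rw [show (⟨n ^ r, _⟩ : M) = ⟨n, hnM⟩ ^ r from rfl, map_pow, hfn, ← map_pow, ← map_pow, hxr,
        map_one, map_one]
    obtain ⟨r', hr', hr'p, hr'U⟩ := hG.core_type hp5 hpG he heo hM heM
    have hrp : r ≠ p := by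
      intro h
      subst h
      exact hG.core_ne_bot hp5 hpG he heo hM heM (Subgroup.eq_bot_of_card_eq _ (by
        obtain ⟨i, hi⟩ := IsPGroup.iff_card.1 hrU
        have := coprime_core r M
        rw [hi] at this ⊢
        rcases Nat.eq_zero_or_pos i with h0 | h0
        · rw [h0, pow_zero]
        · exact absurd (Nat.eq_one_of_dvd_coprimes this (dvd_pow_self r h0.ne') dvd_rfl)
            hr.out.ne_one))
    have hn1 : n = 1 := hG.eq_one_of_commute hp5 hpG he heo hM heM hnM ht1.symm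
      (Nat.Coprime.coprime_dvd_left (orderOf_dvd_of_pow_eq_one hnr)
        ((Nat.coprime_primes hr.out hp.out).2 hrp))
    rw [hn, inv_mul_eq_one] at hn1
    exact hn1 ▸ hu
  -- the image of `A` is a nontrivial cyclic group of exponent `r`
  have hcardL : Nat.card (zpowers eb) = p := by
    rw [Nat.card_zpowers]; exact orderOf_eq_prime hebp heb1
  let ε := IsCyclic.mulAutMulEquiv (zpowers eb)
  rw [hcardL] at ε
  haveI : IsCyclic (MulAut (zpowers eb)) := ε.symm.isCyclic.1 inferInstance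
  have hexp : Nat.card θ.range ∣ r := by
    rw [← IsCyclic.exponent_eq_card]
    refine Monoid.exponent_dvd_of_forall_pow_eq_one ?_
    rintro ⟨_, x, rfl⟩
    refine Subtype.ext ?_
    rw [SubmonoidClass.coe_pow, ← map_pow, show x ^ r = 1 from Subtype.ext (hA.2.1.2 x x.2), map_one]
    rfl
  have hθa : θ ⟨a, haA⟩ ≠ 1 := fun h => haU (hkerθ _ h)
  have hrdvd : r ∣ p - 1 := by
    have h1 : orderOf (θ ⟨a, haA⟩) = r := orderOf_eq_prime
      (by rw [← map_pow, show (⟨a, haA⟩ : A) ^ r = 1 from Subtype.ext (hA.2.1.2 a haA), map_one]) hθa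
    have h2 := orderOf_dvd_natCard (θ ⟨a, haA⟩)
    rwa [h1, Nat.card_congr ε.toEquiv, Nat.card_eq_fintype_card, ZMod.card_units p] at h2
  have hAle : Nat.card A ≤ r * Nat.card ↥(A ⊓ core p M) := by
    rw [← Subgroup.index_mul_card θ.ker, index_ker]
    refine Nat.mul_le_mul (Nat.le_of_dvd hr.out.pos hexp) ?_
    refine Nat.card_le_card_of_injective
      (fun x : θ.ker => (⟨(x : A), (x : A).2, hkerθ _ x.2⟩ : ↥(A ⊓ core p M))) ?_
    intro x y h
    exact Subtype.ext (Subtype.ext (congrArg (fun z : ↥(A ⊓ core p M) => (z : G)) h))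
  -- `W = Ω₁(Z(U))`
  set U := core p M with hU
  obtain ⟨W, hW⟩ : ∃ W : Subgroup G, ∀ x, x ∈ W ↔ x ∈ U ∧ x ^ r = 1 ∧ ∀ u ∈ U, u * x = x * u := by
    refine ⟨
      { carrier := {x | x ∈ U ∧ x ^ r = 1 ∧ ∀ u ∈ U, u * x = x * u}
        one_mem' := ⟨one_mem U, one_pow r, fun u _ => by rw [mul_one, one_mul]⟩
        mul_mem' := ?_
        inv_mem' := ?_ }, fun x => Iff.rfl⟩
    · rintro x y ⟨hx, hxr, hxc⟩ ⟨hy, hyr, hyc⟩
      exact ⟨mul_mem hx hy, by rw [(show Commute x y from hyc x hx).mul_pow, hxr, hyr, one_mul],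
        fun u hu => (show Commute u x from hxc u hu).mul_right (hyc u hu)⟩
    · rintro x ⟨hx, hxr, hxc⟩
      exact ⟨inv_mem hx, by rw [inv_pow, hxr, inv_one],
        fun u hu => (show Commute u x from hxc u hu).inv_right⟩
  have hWU : W ≤ U := fun x hx => ((hW x).1 hx).1
  have hWne : W ≠ ⊥ := by
    haveI : Nontrivial U := (nontrivial_iff_ne_bot _).2 (hG.core_ne_bot hp5 hpG he heo hM heM)
    haveI := hrU.center_nontrivial
    obtain ⟨i, hi⟩ := IsPGroup.iff_card.1 (hrU.to_subgroup (center U))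
    have hi0 : i ≠ 0 := fun h => by
      rw [h, pow_zero] at hi
      exact (Finite.one_lt_card (α := center U)).ne' hi
    obtain ⟨⟨⟨z, hzU⟩, hzc⟩, hzo⟩ :=
      exists_prime_orderOf_dvd_card' (G := center U) r (hi ▸ dvd_pow_self r hi0)
    rw [Subgroup.orderOf_mk, Subgroup.orderOf_mk] at hzo
    intro h
    have hz : z ∈ W := (hW z).2 ⟨hzU, pow_p_eq_one hzo, fun u hu =>
      congrArg Subtype.val (mem_center_iff.1 hzc ⟨u, hu⟩)⟩
    rw [h, mem_bot] at hz
    rw [hz, orderOf_one] at hzo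
    exact hr.out.ne_one hzo.symm
  have hMW : ∀ m ∈ M, ∀ x ∈ W, m * x * m⁻¹ ∈ W := by
    intro m hm x hx
    obtain ⟨hxU, hxr, hxc⟩ := (hW x).1 hx
    refine (hW _).2 ⟨(mem_normalizer_iff.1 (le_normalizer_core p M hm) x).1 hxU,
      by rw [conj_pow, hxr, mul_one, mul_inv_cancel], fun u hu => ?_⟩
    have h1 := hxc _ ((mem_normalizer_iff''.1 (le_normalizer_core p M hm) u).1 hu)
    calc u * (m * x * m⁻¹) = m * ((m⁻¹ * u * m) * x) * m⁻¹ := by group
      _ = m * (x * (m⁻¹ * u * m)) * m⁻¹ := by rw [h1]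
      _ = _ := by group
  have hMNW : M ≤ normalizer (W : Set G) := fun m hm =>
    mem_normalizer_of_conj_mem (hMW m hm) fun x hx => by simpa using hMW m⁻¹ (inv_mem hm) x hx
  have hWfpf : ∀ x ∈ W, e * x = x * e → x = 1 := fun x hx =>
    hG.core_fpf hp5 hpG he heo hM heM x (hWU hx)
  have hWel : Cfsg.IsElementaryAbelian r W :=
    ⟨⟨⟨fun x y => Subtype.ext (((hW y).1 y.2).2.2 x (hWU x.2))⟩⟩, fun x hx => ((hW x).1 hx).2.1⟩
  -- `(A ⊓ U) W` is elementary abelian
  set B := (A ⊓ U) ⊔ W with hB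
  have hBel : Cfsg.IsElementaryAbelian r B := by
    have hc : ∀ x ∈ ((A ⊓ U : Subgroup G) : Set G) ∪ (W : Set G),
        ∀ y ∈ ((A ⊓ U : Subgroup G) : Set G) ∪ (W : Set G), x * y = y * x := by
      rintro x (hx | hx) y (hy | hy)
      · exact congrArg Subtype.val (mul_comm' (⟨x, hx.1⟩ : A) ⟨y, hy.1⟩)
      · exact ((hW y).1 hy).2.2 x hx.2
      · exact (((hW x).1 hx).2.2 y hy.2).symm
      · exact ((hW y).1 hy).2.2 x (hWU hx)
    haveI hBc : IsMulCommutative B := by
      rw [hB, sup_eq_closure]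
      exact isMulCommutative_closure hc
    refine ⟨hBc, fun x hx => ?_⟩
    have hx' : x ∈ closure (((A ⊓ U : Subgroup G) : Set G) ∪ (W : Set G)) := by
      rwa [← sup_eq_closure]
    have hBcl : ∀ z ∈ closure (((A ⊓ U : Subgroup G) : Set G) ∪ (W : Set G)), z ∈ B := fun z hz => by
      rwa [hB, sup_eq_closure]
    induction hx' using closure_induction with
    | mem y hy =>
      rcases hy with hy | hy
      · exact hA.2.1.2 y hy.1
      · exact ((hW y).1 hy).2.1
    | one => exact one_pow r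
    | mul u v hu hv ihu ihv =>
      rw [(show Commute u v from congrArg Subtype.val
        (mul_comm' (⟨u, hBcl u hu⟩ : B) ⟨v, hBcl v hv⟩)).mul_pow, ihu (hBcl u hu), ihv (hBcl v hv),
        one_mul]
    | inv u hu ihu => rw [inv_pow, ihu (hBcl u hu), inv_one]
  have hBA : Nat.card B ≤ Nat.card A :=
    hA.2.2 B (sup_le (inf_le_left.trans hA.1) (hWU.trans hUS)) hBel
  set C := W ⊓ centralizer ({a} : Set G) with hC
  have hAWC : (A ⊓ U) ⊓ W ≤ C := fun x hx =>
    ⟨hx.2, mem_centralizer_singleton_iff.2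
      (congrArg Subtype.val (mul_comm' (⟨x, hx.1.1⟩ : A) ⟨a, haA⟩))⟩
  have hWC : Nat.card W ≤ r * Nat.card C := by
    have h1 := card_sup_mul_card_inf (N := A ⊓ U) (H := W) (fun x hx => by
      refine centralizer_le_normalizer _ (mem_centralizer_iff.2 fun y hy => ?_)
      exact ((hW x).1 hx).2.2 y hy.2)
    have h2 : Nat.card ↥(A ⊓ U) * Nat.card W ≤ Nat.card ↥(A ⊓ U) * (r * Nat.card C) := by
      rw [← h1]
      calc Nat.card ↥(A ⊓ U ⊔ W) * Nat.card ↥((A ⊓ U) ⊓ W)
          ≤ (r * Nat.card ↥(A ⊓ U)) * Nat.card C :=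
            Nat.mul_le_mul (hBA.trans hAle) (card_le_of_le hAWC)
        _ = _ := by ring
    exact Nat.le_of_mul_le_mul_left h2 Nat.card_pos
  have hCW : Nat.card C * Nat.card C ≤ Nat.card W := by
    have haM : a ∈ M := hAM haA
    set t := e * a * e⁻¹ * a⁻¹ with ht
    have htM : t ∈ M := mul_mem (mul_mem (mul_mem heM haM) (inv_mem heM)) (inv_mem haM)
    have hfixed : ∀ x, x ∈ C → x ∈ conjMap e C → x = 1 := by
      intro x hx hx'
      rw [mem_conjMap] at hx'
      have hc1 : Commute x a := mem_centralizer_singleton_iff.1 hx.2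
      have hc2 : Commute x (e * a * e⁻¹) := by
        have h1 : e⁻¹ * x * e * a = a * (e⁻¹ * x * e) := mem_centralizer_singleton_iff.1 hx'.2
        show x * (e * a * e⁻¹) = e * a * e⁻¹ * x
        calc x * (e * a * e⁻¹) = e * (e⁻¹ * x * e * a) * e⁻¹ := by group
          _ = e * (a * (e⁻¹ * x * e)) * e⁻¹ := by rw [h1]
          _ = _ := by group
      have hct : Commute x t := hc2.mul_right hc1.inv_right
      -- modulo `U` the element `t` is a nontrivial power of `e`
      set ab := f ⟨a, haM⟩ with hab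
      have hft : f ⟨t, htM⟩ = eb * (ab * eb⁻¹ * ab⁻¹) := by
        rw [show (⟨t, htM⟩ : M) = ⟨e, heM⟩ * ⟨a, haM⟩ * (⟨e, heM⟩)⁻¹ * (⟨a, haM⟩)⁻¹ from rfl]
        simp only [map_mul, map_inv, mul_assoc, heb, hab]
      have hmem : f ⟨t, htM⟩ ∈ zpowers eb :=
        hft ▸ mul_mem (mem_zpowers eb) (hLn.conj_mem _ (inv_mem (mem_zpowers eb)) ab)
      have hne : f ⟨t, htM⟩ ≠ 1 := by
        intro h
        refine hθa (MulEquiv.ext fun y => Subtype.ext ?_)
        obtain ⟨j, hj⟩ := mem_zpowers_iff.1 y.2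
        have hab' : Commute ab eb := by
          rw [hft, mul_eq_one_iff_eq_inv, mul_inv_rev, mul_inv_rev, inv_inv, inv_inv] at h
          show ab * eb = eb * ab
          rw [eq_comm, ← mul_assoc, mul_inv_eq_iff_eq_mul] at h
          exact h
        rw [hθ, MonoidHom.comp_apply, MulAut.conjNormal_apply]
        show ab * (y : M ⧸ pPrimeCore p M) * ab⁻¹ = y
        rw [← hj, (hab'.zpow_right j).eq, mul_inv_cancel_right]
      obtain ⟨j, hj⟩ := mem_zpowers_iff.1 hmem
      have hu : (e ^ j)⁻¹ * t ∈ U := by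
        refine hker ⟨(e ^ j)⁻¹ * t, mul_mem (inv_mem (zpow_mem heM j)) htM⟩ ?_
        rw [show (⟨(e ^ j)⁻¹ * t, _⟩ : M) = ((⟨e, heM⟩ : M) ^ j)⁻¹ * ⟨t, htM⟩ from
          Subtype.ext (by simp), map_mul, map_inv, map_zpow, ← heb, hj, inv_mul_cancel]
      have hxU : Commute x ((e ^ j)⁻¹ * t) := (((hW x).1 hx.1).2.2 _ hu).symm
      have hxe : Commute x (e ^ j) := by
        have h1 : Commute x (t * ((e ^ j)⁻¹ * t)⁻¹) := hct.mul_right hxU.inv_right
        rwa [show t * ((e ^ j)⁻¹ * t)⁻¹ = e ^ j by group] at h1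
      have hej : e ^ j ≠ 1 := by
        intro h
        apply hne
        rw [← hj, heb, ← map_zpow, show (⟨e, heM⟩ : M) ^ j = 1 from Subtype.ext (by simpa using h),
          map_one]
      obtain ⟨i, hi⟩ := mem_zpowers_iff.1
        ((zpowers_eq_of_mem heo (zpow_mem_zpowers e j) hej).ge (mem_zpowers e))
      have hxe' : Commute x ((e ^ j) ^ i) := hxe.zpow_right i
      rw [hi] at hxe'
      exact hWfpf x hx.1 hxe'.symm.eq
    have h1 := card_sup_mul_card_inf (N := C) (H := conjMap e C) (fun x hx => by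
      refine centralizer_le_normalizer _ (mem_centralizer_iff.2 fun y hy => ?_)
      obtain ⟨z, hz, rfl⟩ := hx
      exact ((hW _).1 (hMW e heM z hz.1)).2.2 y (hWU hy.1))
    have h2 : C ⊓ conjMap e C = ⊥ :=
      (Subgroup.eq_bot_iff_forall _).2 fun x hx => hfixed x hx.1 hx.2
    rw [h2, card_bot, mul_one, card_conjMap] at h1
    rw [← h1]
    exact card_le_of_le (sup_le inf_le_left ((conjMap_mono inf_le_left).trans
      (conjMap_eq_self (hMNW heM)).le))
  obtain ⟨k, hk⟩ := IsPGroup.iff_card.1 (hrU.to_le hWU)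
  have hk0 : k ≠ 0 := fun h => hWne (Subgroup.eq_bot_of_card_eq _ (by rw [hk, h, pow_zero]))
  have hCr : Nat.card C ≤ r := Nat.le_of_mul_le_mul_right (hCW.trans hWC) Nat.card_pos
  have hk2 : k ≤ 2 := by
    refine (Nat.pow_le_pow_iff_right hr.out.one_lt).1 ?_
    rw [← hk, pow_two]
    exact hWC.trans (Nat.mul_le_mul_left r hCr)
  exact arith_false (k := k) hr.out hp5 (by omega) hrdvd
    (hk ▸ card_modEq_one heo (hMNW heM) hWfpf)

/-- `M` is the normalizer of the Thompson subgroup of a Sylow `r`-subgroup of `G`. -/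
theorem exists_sylow {r : ℕ} [hr : Fact r.Prime] (hrU : IsPGroup r (core p M)) :
    ∃ R : Sylow r G, normalizer (Cfsg.thompsonSubgroupOf r (R : Subgroup G) : Set G) = M := by
  obtain ⟨S₀, hS₀⟩ := (hrU.of_equiv (subgroupOfEquivOfLe (core_le p M)).symm).exists_le_sylow
  set S := (S₀ : Subgroup M).map M.subtype with hS
  have hSp : IsPGroup r S := S₀.isPGroup'.map _
  have hUS : core p M ≤ S :=
    (map_subgroupOf_eq_of_le (core_le p M)).ge.trans (Subgroup.map_mono hS₀)
  have hSM : S ≤ M := map_subtype_le _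
  have hJU : Cfsg.thompsonSubgroupOf r S ≤ core p M := by
    rw [Cfsg.Lib.Thompson.thompsonSubgroupOf_eq]
    exact sSup_le fun A hA => hG.maxElem_le_core hp5 hpG he heo hM heM hrU hSp hUS hSM hA
  have hJ : Cfsg.thompsonSubgroupOf r S = Cfsg.thompsonSubgroupOf r (core p M) := by
    rw [← Cfsg.Lib.ZJ.thompson_inf_eq hJU, inf_eq_right.2 hUS]
  have hUne := hG.core_ne_bot hp5 hpG he heo hM heM
  have hN : normalizer (Cfsg.thompsonSubgroupOf r S : Set G) = M := by
    rw [hJ]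
    have hle : M ≤ normalizer (Cfsg.thompsonSubgroupOf r (core p M) : Set G) :=
      (le_normalizer_core p M).trans (Cfsg.Lib.Thompson.normalizer_le_normalizer_thompson _)
    refine (hM.1.le_iff.1 hle).resolve_left (hG.normalizer_ne_top
      (Cfsg.Lib.Thompson.thompsonSubgroupOf_ne_bot hrU hUne) fun h => hM.1.1 (top_le_iff.1 ?_))
    exact h ▸ (Cfsg.Lib.Thompson.thompsonSubgroupOf_le _).trans (core_le p M)
  obtain ⟨R, hR⟩ := hSp.exists_le_sylow
  haveI := R.isPGroup'.isNilpotent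
  suffices hSR : S = (R : Subgroup G) by exact ⟨R, hSR ▸ hN⟩
  by_contra hne
  have h1 := Group.normalizerCondition_of_isNilpotent (G := (R : Subgroup G))
    (S.subgroupOf (R : Subgroup G))
    (lt_top_iff_ne_top.2 fun h => hne (le_antisymm hR (subgroupOf_eq_top.1 h)))
  refine h1.not_ge fun x hx => ?_
  have hxN : (x : G) ∈ normalizer (S : Set G) := by
    refine mem_normalizer_iff.2 fun z => ⟨fun hz => ?_, fun hz => ?_⟩
    · exact mem_subgroupOf.1 ((mem_normalizer_iff.1 hx ⟨z, hR hz⟩).1 (mem_subgroupOf.2 hz))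
    · have hz' : z ∈ (R : Subgroup G) := by
        have := mul_mem (mul_mem (inv_mem x.2) (hR hz)) x.2
        simpa [mul_assoc] using this
      exact mem_subgroupOf.1 ((mem_normalizer_iff.1 hx ⟨z, hz'⟩).2 (mem_subgroupOf.2 hz))
  have hxM : (x : G) ∈ M := hN ▸ Cfsg.Lib.Thompson.normalizer_le_normalizer_thompson S hxN
  -- the `r`-subgroup `R ⊓ M` contains the Sylow subgroup `S₀` of `M`, so equals it
  have hmax := S₀.3 (Q := ((R : Subgroup G) ⊓ M).subgroupOf M)
    ((R.isPGroup'.to_le inf_le_left).of_equiv (subgroupOfEquivOfLe inf_le_right).symm)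
    (fun y hy => mem_subgroupOf.2 ⟨hR ⟨y, hy, rfl⟩, y.2⟩)
  have hxS : (⟨x, hxM⟩ : M) ∈ ((R : Subgroup G) ⊓ M).subgroupOf M := mem_subgroupOf.2 ⟨x.2, hxM⟩
  rw [hmax] at hxS
  exact mem_subgroupOf.2 ⟨_, hxS, rfl⟩

end MinTwo

namespace MinTwo

variable (hG : MinTwo G) (hp5 : 5 ≤ p) (hpG : p ∣ Nat.card G) {P : Sylow p G} {e : G}
  (he : e ∈ zj P) (heo : orderOf e = p)

include hG hp5 hpG he heo

/-- Other maximal subgroups on `e` of the same type are conjugate under `N(⟨e⟩)`. -/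
theorem exists_conj_of_type {r : ℕ} [hr : Fact r.Prime] {M M' : Subgroup G} (hM : IsOther p M)
    (heM : e ∈ M) (hM' : IsOther p M') (heM' : e ∈ M') (hrM : IsPGroup r (core p M))
    (hrM' : IsPGroup r (core p M')) : ∃ n ∈ line e, conjMap n M = M' := by
  obtain ⟨R, hR⟩ := hG.exists_sylow hp5 hpG he heo hM heM hrM
  obtain ⟨R', hR'⟩ := hG.exists_sylow hp5 hpG he heo hM' heM' hrM'
  obtain ⟨g, rfl⟩ := MulAction.exists_smul_eq G R R'
  have hg : conjMap g M = M' := by
    rw [← hR, ← hR', ← normalizer_conjMap]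
    congr 2
    rw [conjMap, Cfsg.Lib.Thompson.map_thompsonSubgroupOf
      (fun a _ b _ h => (MulAut.conj g).injective h)]
    rfl
  have hge : g * e * g⁻¹ ∈ M' := hg ▸ ⟨e, heM, rfl⟩
  have hgo : orderOf (g * e * g⁻¹) = p := by
    rw [show g * e * g⁻¹ = MulAut.conj g e from rfl, MulEquiv.orderOf_eq, heo]
  obtain ⟨m, hm, hme⟩ := hG.exists_conj_mem_zpowers hp5 hpG hM' hge heM' hgo heo
  refine ⟨m * g, ?_, by rw [← conjMap_mul, hg, conjMap_eq_self (le_normalizer hm)]⟩
  have h1 : m * g * e * (m * g)⁻¹ = m * (g * e * g⁻¹) * m⁻¹ := by group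
  rw [line, ← conjMap_eq_self_iff, conjMap, MonoidHom.map_zpowers]
  refine zpowers_eq_of_mem heo ?_ ?_
  · show m * g * e * (m * g)⁻¹ ∈ zpowers e
    rw [h1]; exact hme
  · exact fun h => ne_one_of_orderOf heo ((map_eq_one_iff _ (MulAut.conj (m * g)).injective).1 h)

end MinTwo

end Cfsg.Lib.TwoGen
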