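import Cfsg.Agent.TwoGen.Mixed
import Cfsg.Agent.Thompson.FixedPointFree

/-!
The maximal subgroups containing `e` outside `N(Z(J(P)))`: each is `U : N(⟨e⟩)` with `e` fixed
point free on the `r`-group `U`, and two of them meet `U` trivially.
-/

set_option autoImplicit false
set_option linter.unusedSectionVars false
set_option linter.style.haveILetI false

namespace Cfsg.Lib.TwoGen

open Subgroup Cfsg.Lib.Components Cfsg.Lib.Coprime
open scoped commutatorElement

universe u

variable {G : Type u} [Group G] [Finite G] {p : ℕ} [hp : Fact p.Prime]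

omit [Finite G] hp in
theorem pow_p_eq_one {H : Type u} [Group H] {x : H} (hx : orderOf x = p) : x ^ p = 1 := by
  rw [← hx]; exact pow_orderOf_eq_one x

/-- `N(⟨e⟩)`. -/
abbrev line (e : G) : Subgroup G := normalizer (zpowers e : Set G)

theorem conj_zpowers_eq {e a : G} {i : ℤ} (m : G) (hi : m * e * m⁻¹ = a * e ^ i * a⁻¹)
    (hge : zpowers (e ^ i) = zpowers e) : a⁻¹ * m ∈ line e := by
  rw [line, ← conjMap_eq_self_iff, conjMap, MonoidHom.map_zpowers]
  conv_rhs => rw [← hge]
  congr 1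
  show a⁻¹ * m * e * (a⁻¹ * m)⁻¹ = e ^ i
  calc a⁻¹ * m * e * (a⁻¹ * m)⁻¹ = a⁻¹ * (m * e * m⁻¹) * a := by group
    _ = _ := by rw [hi]; group

namespace MinTwo

variable (hG : MinTwo G) (hp5 : 5 ≤ p) (hpG : p ∣ Nat.card G) {P : Sylow p G} {e : G}
  (he : e ∈ zj P) (heo : orderOf e = p) {M : Subgroup G} (hM : IsOther p M) (heM : e ∈ M)

include hG hp5 hpG he heo hM heM

/-- `O_{p'}(M)` is an `r`-group equal to `O_r(M)` on which `e` is fixed point free. -/
theorem core_spec : ∃ r : ℕ, r.Prime ∧ r ≠ p ∧ pCore r M ≠ ⊥ ∧ pPrimeCore p M = pCore r M ∧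
    ∀ x ∈ core p M, e * x = x * e → x = 1 := by
  obtain ⟨r, hr, hU⟩ := hG.exists_type hM.1
  haveI := Fact.mk hr
  haveI := hG.proper M hM.1.1
  have hrp : r ≠ p := fun h => hU (by rw [h]; exact hG.pCore_other_eq_bot hp5 hpG hM)
  haveI hUn : (pCore r M).Normal := pCore_normal' r
  haveI : (pPrimeCore p M).Normal := pPrimeCore_normal' p
  set U := (pCore r M).map M.subtype with hUdef
  have hUp : IsPGroup r U := (isPGroup_pCore r).map _
  have heU : e ∈ normalizer (U : Set G) := (hG.normalizer_pCore hM.1 hU).ge heM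
  have hCU := Cfsg.Lib.Coprime.centralizer_pCore_le r (hG.pPrimeCore_coatom_eq_bot hM.1 hU)
  have hUfpf : ∀ x ∈ U, e * x = x * e → x = 1 := by
    intro x hx hxc
    by_contra hx1
    have h : (⟨e, heM⟩ : M) ∈ pCore r M := hCU (mem_centralizer_iff.2 fun z hz =>
      Subtype.ext (hG.fixed_or_fpf hp5 hpG he heo hrp U hUp heU x hx hxc hx1 z
        ⟨z, hz, rfl⟩).symm)
    have h2 := eq_one_of_pGroup_coprime (p := p) (isPGroup_zpowers heo)
      (coprime_rGroup hrp hUp) (mem_zpowers e) ⟨_, h, rfl⟩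
    exact ne_one_of_orderOf heo h2
  have hUle : pCore r M ≤ pPrimeCore p M :=
    Cfsg.Lib.Components.le_pPrimeCore (coprime_rGroup hrp (isPGroup_pCore (G := M) r))
  have hUK : U ≤ core p M := Subgroup.map_mono hUle
  have hKfpf : ∀ x ∈ core p M, e * x = x * e → x = 1 := by
    intro y hy hyc
    by_contra hy1
    obtain ⟨x, hx, hx1⟩ := U.bot_or_exists_ne_one.resolve_left (hG.pCore_map_ne hU)
    have hw : e * (y * x) ≠ (y * x) * e := fun h => hx1 (hUfpf x hx (by
      have h1 : Commute e (y⁻¹ * (y * x)) := (Commute.inv_right hyc).mul_right h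
      rwa [inv_mul_cancel_left] at h1))
    set w := y * x with hwdef
    have hwK : w ∈ core p M := mul_mem hy (hUK hx)
    have heK : e ∈ normalizer (core p M : Set G) := le_normalizer_core p M heM
    set Y := orb e w with hY
    have hYK : Y ≤ core p M := orb_le heK hwK
    have hYc : (Nat.card Y).Coprime p :=
      Nat.Coprime.coprime_dvd_left (card_dvd_of_le hYK) (coprime_core p M)
    have hMU : M ≤ normalizer (U : Set G) := (hG.normalizer_pCore hM.1 hU).ge
    have heY : zpowers e ≤ normalizer ((Y ⊓ U : Subgroup G) : Set G) :=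
      zpowers_le.2 (Cfsg.Lib.Coprime.le_normalizer_inf
        (le_refl (normalizer (Y : Set G) ⊓ normalizer (U : Set G)) |>.trans inf_le_left)
        inf_le_right ⟨mem_normalizer_orb e w, heU⟩)
    obtain ⟨n, hn, hwn⟩ := exists_fixed_of_commutator_mem (A := zpowers e) (N := Y ⊓ U) (k := w)
      heY (by
        rw [Nat.card_zpowers, heo]
        exact (Nat.Coprime.coprime_dvd_left (card_dvd_of_le inf_le_left) hYc).symm)
      (Or.inl inferInstance)
      (Cfsg.Lib.Coprime.le_normalizer_inf inf_le_left inf_le_right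
        (show w ∈ normalizer (Y : Set G) ⊓ normalizer (U : Set G) from
          ⟨le_normalizer (self_mem_orb e w), hMU (core_le p M hwK)⟩))
      (fun a ha => by
        have haY : a ∈ normalizer (Y : Set G) := zpowers_le.2 (mem_normalizer_orb e w) ha
        have haU : a ∈ normalizer (U : Set G) := zpowers_le.2 heU ha
        have hay : Commute a y := by
          obtain ⟨i, rfl⟩ := mem_zpowers_iff.1 ha
          exact (show Commute e y from hyc).zpow_left i
        refine ⟨(show a * w * a⁻¹ * w⁻¹ ∈ Y from mul_mem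
          ((mem_normalizer_iff.1 haY w).1 (self_mem_orb e w)) (inv_mem (self_mem_orb e w))), ?_⟩
        have h1 : a * w * a⁻¹ * w⁻¹ = y * (a * x * a⁻¹ * x⁻¹) * y⁻¹ := by
          calc a * w * a⁻¹ * w⁻¹ = (a * y * a⁻¹) * (a * x * a⁻¹ * x⁻¹) * y⁻¹ := by
                rw [hwdef]; group
            _ = _ := by rw [hay.eq, mul_inv_cancel_right]
        show a * w * a⁻¹ * w⁻¹ ∈ U
        rw [h1]
        exact (mem_normalizer_iff.1 (hMU (core_le p M hy)) _).1
          (mul_mem ((mem_normalizer_iff.1 haU x).1 hx) (inv_mem hx)))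
    have hc : e * (w * n) = w * n * e := by
      have h1 := mem_centralizer_iff.1 hwn e (mem_zpowers e)
      exact h1
    by_cases hwn1 : w * n = 1
    · have hwU : w ∈ U := by rw [eq_inv_of_mul_eq_one_left hwn1]; exact inv_mem hn.2
      refine hy1 (hUfpf y ?_ hyc)
      have h1 := mul_mem hwU (inv_mem hx)
      rwa [hwdef, mul_inv_cancel_right] at h1
    · exact hG.moved_fix hp5 hpG he heo hw (mul_mem (self_mem_orb e w) hn.1) hwn1 hc hYc
  refine ⟨r, hr, hrp, hU, le_antisymm ?_ hUle, hKfpf⟩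
  set c : MulAut (core p M) := (core p M).normalizerMonoidHom ⟨e, le_normalizer_core p M heM⟩ with hcd
  have hiter : ∀ (k : ℕ) (a : core p M),
      ((c.toMonoidHom^[k]) a : G) = e ^ k * (a : G) * (e ^ k)⁻¹ := by
    intro k
    induction k with
    | zero => intro a; simp
    | succ k ih =>
      intro a
      rw [Function.iterate_succ_apply, ih]
      show e ^ k * (e * (a : G) * e⁻¹) * (e ^ k)⁻¹ = _
      group
  haveI : Group.IsNilpotent (core p M) := Cfsg.Lib.Thompson.isNilpotent_of_fpf c.toMonoidHom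
    (fun g hg => by
      have h1 : e * (g : G) * e⁻¹ = g := congrArg Subtype.val hg
      exact Subtype.ext (hKfpf g g.2 (mul_inv_eq_iff_eq_mul.1 h1))) hp.out
    (by
      funext a
      refine Subtype.ext ?_
      rw [hiter, pow_p_eq_one heo]
      simp)
  haveI : Group.IsNilpotent (pPrimeCore p M) :=
    Group.nilpotent_of_mulEquiv (G := core p M)
      ((pPrimeCore p M).equivMapOfInjective M.subtype M.subtype_injective).symm
  rw [← Cfsg.Lib.Coprime.fitting_eq_pCore r (hG.pPrimeCore_coatom_eq_bot hM.1 hU)]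
  exact Cfsg.Lib.Components.le_fitting inferInstance

theorem core_fpf : ∀ x ∈ core p M, e * x = x * e → x = 1 := by
  obtain ⟨r, -, -, -, -, h⟩ := hG.core_spec hp5 hpG he heo hM heM
  exact h

theorem core_type : ∃ r : ℕ, r.Prime ∧ r ≠ p ∧ IsPGroup r (core p M) := by
  obtain ⟨r, hr, hrp, -, h, -⟩ := hG.core_spec hp5 hpG he heo hM heM
  exact ⟨r, hr, hrp, by rw [core, h]; exact (isPGroup_pCore r).map _⟩

theorem core_ne_bot : core p M ≠ ⊥ := by
  obtain ⟨r, hr, -, hne, h, -⟩ := hG.core_spec hp5 hpG he heo hM heM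
  haveI := Fact.mk hr
  rw [core, h]
  exact hG.pCore_map_ne hne

theorem normalizer_core : normalizer (core p M : Set G) = M := by
  obtain ⟨r, hr, -, hne, h, -⟩ := hG.core_spec hp5 hpG he heo hM heM
  haveI := Fact.mk hr
  rw [core, h]
  exact hG.normalizer_pCore hM.1 hne

theorem centralizer_core_le : M ⊓ centralizer (core p M : Set G) ≤ core p M := by
  obtain ⟨r, hr, -, hne, h, -⟩ := hG.core_spec hp5 hpG he heo hM heM
  haveI := Fact.mk hr
  haveI := hG.proper M hM.1.1
  rintro x ⟨hxM, hxc⟩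
  refine ⟨⟨x, hxM⟩, h ▸ Cfsg.Lib.Coprime.centralizer_pCore_le r
    (hG.pPrimeCore_coatom_eq_bot hM.1 hne) (mem_centralizer_iff.2 fun z hz => Subtype.ext ?_), rfl⟩
  exact mem_centralizer_iff.1 hxc z ⟨z, h.symm ▸ hz, rfl⟩

theorem not_mem_core : e ∉ core p M := fun h =>
  ne_one_of_orderOf heo (eq_one_of_pGroup_coprime (isPGroup_zpowers heo) (coprime_core p M)
    (mem_zpowers e) h)

/-- The image of `e` in `M / O_{p'}(M)` generates the only subgroup of order `p` of `O_p`. -/
theorem quot_spec [(pPrimeCore p M).Normal] :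
    QuotientGroup.mk' (pPrimeCore p M) ⟨e, heM⟩ ∈ pCore p (M ⧸ pPrimeCore p M) ∧
    ∀ v ∈ pCore p (M ⧸ pPrimeCore p M), v ^ p = 1 →
      v ∈ zpowers (QuotientGroup.mk' (pPrimeCore p M) ⟨e, heM⟩) := by
  haveI := hG.proper M hM.1.1
  set f := QuotientGroup.mk' (pPrimeCore p M) with hf
  haveI hVn : (pCore p (M ⧸ pPrimeCore p M)).Normal := pCore_normal' p
  set V := pCore p (M ⧸ pPrimeCore p M) with hV
  obtain ⟨S, hS⟩ := ((isPGroup_zpowers heo).of_equiv
    (subgroupOfEquivOfLe (zpowers_le.2 heM)).symm).exists_le_sylow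
  have heS : (⟨e, heM⟩ : M) ∈ (S : Subgroup M) := hS (mem_subgroupOf.2 (mem_zpowers e))
  have hSinj : ∀ t ∈ (S : Subgroup M), f t = 1 → t = 1 := fun t ht h =>
    eq_one_of_pGroup_coprime S.isPGroup' (coprime_card_pPrimeCore p) ht
      ((QuotientGroup.eq_one_iff t).1 h)
  have hline : ∀ v ∈ V, v ^ p = 1 → v ≠ 1 → zpowers v = zpowers (f ⟨e, heM⟩) := by
    intro v hv hvp hv1
    have h := Cfsg.Lib.Coprime.pCore_le_sylow p
      (S.mapSurjective (QuotientGroup.mk'_surjective (pPrimeCore p M))) hv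
    rw [Sylow.coe_mapSurjective] at h
    obtain ⟨s, hs, rfl⟩ := h
    have hso : orderOf s = p := orderOf_eq_prime
      (hSinj _ (pow_mem hs p) (by rw [map_pow]; exact hvp)) (fun h1 => hv1 (by rw [h1]; exact map_one f))
    have h1 := hG.zpowers_eq_of_sylow hp5 hpG hM (X := (S : Subgroup M).map M.subtype)
      (map_subtype_le _) (S.isPGroup'.map _) (x := (s : G)) (y := e) ⟨s, hs, rfl⟩ ⟨_, heS, rfl⟩
      (by rw [orderOf_coe, hso]) heo
    have h2 : zpowers s = zpowers (⟨e, heM⟩ : M) := by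
      refine Subgroup.map_injective M.subtype_injective ?_
      rwa [MonoidHom.map_zpowers, MonoidHom.map_zpowers]
    rw [← MonoidHom.map_zpowers, ← MonoidHom.map_zpowers, h2]
  refine ⟨?_, fun v hv hvp => ?_⟩
  · have hne : V ≠ ⊥ := by
      intro h0
      have h1 := Cfsg.Lib.Coprime.centralizer_pCore_le p
        (Cfsg.Lib.Coprime.pPrimeCore_quotient_eq_bot (G := M) (p := p))
      have h2 : f ⟨e, heM⟩ ∈ (⊥ : Subgroup (M ⧸ pPrimeCore p M)) := by
        rw [← h0, hV]
        refine h1 (mem_centralizer_iff.2 fun z hz => ?_)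
        rw [mem_bot.1 (h0 ▸ hz : z ∈ (⊥ : Subgroup _)), one_mul, mul_one]
      exact ne_one_of_orderOf heo (congrArg Subtype.val (hSinj _ heS (mem_bot.1 h2)))
    obtain ⟨n, hn⟩ := IsPGroup.iff_card.1 (isPGroup_pCore (G := M ⧸ pPrimeCore p M) p)
    have hn0 : n ≠ 0 := fun h => hne (by
      rw [h, pow_zero] at hn; exact Subgroup.eq_bot_of_card_eq _ hn)
    obtain ⟨⟨v, hv⟩, hvo⟩ := exists_prime_orderOf_dvd_card' (G := V) p (hn ▸ dvd_pow_self p hn0)
    rw [Subgroup.orderOf_mk] at hvo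
    exact zpowers_le.2 hv
      (hline v hv (pow_p_eq_one hvo) (ne_one_of_orderOf hvo) ▸ mem_zpowers _)
  · by_cases hv1 : v = 1
    · rw [hv1]; exact one_mem _
    · exact hline v hv hvp hv1 ▸ mem_zpowers v

/-- `M = O_{p'}(M) N_M(⟨e⟩)`. -/
theorem exists_split {m : G} (hm : m ∈ M) : ∃ a ∈ core p M, a⁻¹ * m ∈ line e := by
  haveI : (pPrimeCore p M).Normal := pPrimeCore_normal' p
  haveI hVn : (pCore p (M ⧸ pPrimeCore p M)).Normal := pCore_normal' p
  obtain ⟨heV, hline⟩ := hG.quot_spec hp5 hpG he heo hM heM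
  set f := QuotientGroup.mk' (pPrimeCore p M) with hf
  have hv : f ⟨m, hm⟩ * f ⟨e, heM⟩ * (f ⟨m, hm⟩)⁻¹ ∈ pCore p (M ⧸ pPrimeCore p M) :=
    hVn.conj_mem _ heV _
  have hep : (⟨e, heM⟩ : M) ^ p = 1 := Subtype.ext (by
    rw [SubmonoidClass.coe_pow]; exact pow_p_eq_one heo)
  obtain ⟨i, hi⟩ := mem_zpowers_iff.1 (hline _ hv (by
    rw [conj_pow, ← map_pow, hep, map_one, mul_one, mul_inv_cancel]))
  have hu : m * e * m⁻¹ * (e ^ i)⁻¹ ∈ core p M := by
    refine ⟨⟨m, hm⟩ * ⟨e, heM⟩ * (⟨m, hm⟩)⁻¹ * ((⟨e, heM⟩ : M) ^ i)⁻¹, ?_, by simp⟩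
    show _ ∈ pPrimeCore p M
    rw [← QuotientGroup.eq_one_iff]
    show f _ = 1
    rw [map_mul, map_mul, map_mul, map_inv, map_inv, map_zpow, ← hi, mul_inv_cancel]
  have hei : e ^ i ≠ 1 := by
    intro h0
    rw [h0, inv_one, mul_one] at hu
    have h1 := (mem_normalizer_iff''.1 (le_normalizer_core p M hm) _).1 hu
    rw [show m⁻¹ * (m * e * m⁻¹) * m = e by group] at h1
    exact hG.not_mem_core hp5 hpG he heo hM heM h1
  have hzi : zpowers (e ^ i) = zpowers e := zpowers_eq_of_mem heo (zpow_mem_zpowers e i) hei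
  obtain ⟨a, ha, hae⟩ := fpf_surj (zpow_mem (le_normalizer_core p M heM) i) (fun x hx hxc => by
    refine hG.core_fpf hp5 hpG he heo hM heM x hx ?_
    obtain ⟨j, hj⟩ := mem_zpowers_iff.1 (hzi.ge (mem_zpowers e))
    have h1 : Commute ((e ^ i) ^ j) x := (show Commute (e ^ i) x from hxc).zpow_left j
    rwa [hj] at h1) (inv_mem hu)
  refine ⟨a, ha, conj_zpowers_eq m ?_ hzi⟩
  have h1 := congrArg (·⁻¹) hae
  simp only [inv_inv, mul_inv_rev] at h1
  rw [eq_mul_inv_iff_mul_eq] at h1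
  rw [← h1]
  group

/-- `C_M(e)` is a `p`-group. -/
theorem eq_one_of_commute {y : G} (hy : y ∈ M) (hc : e * y = y * e) (hyp : (orderOf y).Coprime p) :
    y = 1 := by
  haveI := hG.proper M hM.1.1
  haveI : (pPrimeCore p M).Normal := pPrimeCore_normal' p
  haveI hVn : (pCore p (M ⧸ pPrimeCore p M)).Normal := pCore_normal' p
  obtain ⟨-, hline⟩ := hG.quot_spec hp5 hpG he heo hM heM
  set f := QuotientGroup.mk' (pPrimeCore p M) with hf
  have hcop : (Nat.card (zpowers (f ⟨y, hy⟩))).Coprime p := by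
    rw [Nat.card_zpowers]
    refine Nat.Coprime.coprime_dvd_left ((orderOf_map_dvd f _).trans ?_) hyp
    rw [← orderOf_coe]
  have hfix : zpowers (f ⟨y, hy⟩) ≤
      centralizer (pCore p (M ⧸ pPrimeCore p M) : Set (M ⧸ pPrimeCore p M)) := by
    refine Cfsg.Agent.S1443.result p (by omega) _ ⊥ _ (isPGroup_pCore p) bot_le
      ⟨⟨⟨fun a b => Subsingleton.elim _ _⟩⟩, fun a ha => by rw [mem_bot.1 ha, one_pow]⟩
      (by rw [normalizer_eq_top_iff.2 hVn]; exact le_top) hcop fun x hx hxo => ?_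
    obtain ⟨i, rfl⟩ := mem_zpowers_iff.1 (hline x hx.1 (pow_p_eq_one hxo))
    rw [zpowers_le]
    refine mem_centralizer_singleton_iff.2 ?_
    refine (Commute.zpow_right ?_ i).eq
    exact (congrArg f (Subtype.ext hc.symm : (⟨y, hy⟩ : M) * ⟨e, heM⟩ = ⟨e, heM⟩ * ⟨y, hy⟩)).trans
      (map_mul f _ _) |> fun h => (map_mul f _ _).symm.trans h
  have h := eq_one_of_pGroup_coprime (isPGroup_pCore p) hcop
    (Cfsg.Lib.Coprime.centralizer_pCore_le p Cfsg.Lib.Coprime.pPrimeCore_quotient_eq_bot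
      (hfix (mem_zpowers _))) (mem_zpowers _)
  exact hG.core_fpf hp5 hpG he heo hM heM y ⟨_, (QuotientGroup.eq_one_iff _).1 h, rfl⟩ hc

/-- A `p'`-subgroup of `M` on which `e` acts without fixed points lies in `O_{p'}(M)`. -/
theorem le_core_of_fpf {X : Subgroup G} (hXM : X ≤ M) (heX : e ∈ normalizer (X : Set G))
    (hXp : (Nat.card X).Coprime p) (hfpf : ∀ x ∈ X, e * x = x * e → x = 1) : X ≤ core p M := by
  intro x hx
  obtain ⟨v, hv, rfl⟩ := fpf_surj heX hfpf hx
  obtain ⟨a, ha, han⟩ := hG.exists_split hp5 hpG he heo hM heM (hXM hv)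
  haveI : (pPrimeCore p M).Normal := pPrimeCore_normal' p
  set f := QuotientGroup.mk' (pPrimeCore p M) with hf
  have hvM := hXM hv
  have haM := core_le p M ha
  set k := e * (a⁻¹ * v) * e⁻¹ * (a⁻¹ * v)⁻¹ with hk
  have hke : k ∈ zpowers e := by
    have h1 := (mem_normalizer_iff.1 han e⁻¹).1 (inv_mem (mem_zpowers e))
    have h2 := mul_mem (mem_zpowers e) h1
    rw [hk]
    simpa [mul_assoc] using h2
  have hkM : k ∈ M := zpowers_le.2 heM hke
  set t : M := ⟨e * v * e⁻¹ * v⁻¹,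
    mul_mem (mul_mem (mul_mem heM hvM) (inv_mem heM)) (inv_mem hvM)⟩ with ht
  have hfa : f ⟨a, haM⟩ = 1 := (QuotientGroup.eq_one_iff _).2 (by
    obtain ⟨z, hz, hza⟩ := ha
    exact (show (⟨a, haM⟩ : M) = z from Subtype.ext hza.symm) ▸ hz)
  have hft : f t = f ⟨k, hkM⟩ := by
    have h1 : (⟨k, hkM⟩ : M) = ⟨e, heM⟩ * ((⟨a, haM⟩)⁻¹ * ⟨v, hvM⟩) * (⟨e, heM⟩)⁻¹ *
        ((⟨a, haM⟩)⁻¹ * ⟨v, hvM⟩)⁻¹ := Subtype.ext (by simp [hk, mul_assoc])
    have h2 : t = ⟨e, heM⟩ * ⟨v, hvM⟩ * (⟨e, heM⟩)⁻¹ * (⟨v, hvM⟩)⁻¹ := rfl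
    rw [h1, h2]
    simp only [map_mul, map_inv, hfa, inv_one, one_mul]
  have htp : (f t) ^ p = 1 := by
    rw [hft, ← map_pow, show (⟨k, hkM⟩ : M) ^ p = 1 from Subtype.ext (by
      obtain ⟨i, hi⟩ := mem_zpowers_iff.1 hke
      rw [SubmonoidClass.coe_pow]
      show k ^ p = 1
      rw [← hi, ← zpow_natCast, ← zpow_mul, mul_comm, zpow_mul, zpow_natCast, pow_p_eq_one heo,
        one_zpow]), map_one]
  have hto : (f t) ^ orderOf (e * v * e⁻¹ * v⁻¹) = 1 := by
    rw [← map_pow, show t ^ orderOf (e * v * e⁻¹ * v⁻¹) = 1 from Subtype.ext (by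
      rw [SubmonoidClass.coe_pow]; exact pow_orderOf_eq_one _), map_one]
  have h3 := pow_gcd_eq_one.2 ⟨hto, htp⟩
  rw [(coprime_orderOf hXp hx).gcd_eq_one, pow_one] at h3
  exact ⟨t, (QuotientGroup.eq_one_iff t).1 h3, rfl⟩

theorem card_eq : Nat.card M = Nat.card (core p M) * Nat.card ↥(M ⊓ line e) := by
  rw [← Nat.card_prod]
  refine (Nat.card_congr (Equiv.ofBijective
    (fun x : core p M × ↥(M ⊓ line e) =>
      (⟨(x.1 : G) * x.2, mul_mem (core_le p M x.1.2) x.2.2.1⟩ : M)) ⟨?_, ?_⟩)).symm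
  · rintro ⟨a, b⟩ ⟨a', b'⟩ h
    have h1 : (a : G) * b = a' * b' := congrArg Subtype.val h
    have h2 : (a' : G)⁻¹ * a = b' * (b : G)⁻¹ := by
      rw [eq_mul_inv_iff_mul_eq, mul_assoc, h1, inv_mul_cancel_left]
    set d := (a' : G)⁻¹ * a with hd
    have hdK : d ∈ core p M := mul_mem (inv_mem a'.2) a.2
    have hdN : d ∈ line e := h2 ▸ mul_mem b'.2.2 (inv_mem b.2.2)
    have h3 : d * e * d⁻¹ * e⁻¹ ∈ zpowers e :=
      mul_mem ((mem_normalizer_iff.1 hdN e).1 (mem_zpowers e)) (inv_mem (mem_zpowers e))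
    have h4 : d * e * d⁻¹ * e⁻¹ ∈ core p M := by
      have := mul_mem hdK
        ((mem_normalizer_iff.1 (le_normalizer_core p M heM) d⁻¹).1 (inv_mem hdK))
      simpa [mul_assoc] using this
    have h5 := eq_one_of_pGroup_coprime (isPGroup_zpowers heo) (coprime_core p M) h3 h4
    rw [mul_inv_eq_one, mul_inv_eq_iff_eq_mul] at h5
    have h6 := hG.core_fpf hp5 hpG he heo hM heM d hdK h5.symm
    have haa : a = a' := Subtype.ext (inv_mul_eq_one.1 h6).symm
    subst haa
    rw [Prod.mk.injEq]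
    exact ⟨rfl, Subtype.ext (mul_left_cancel h1)⟩
  · rintro ⟨m, hm⟩
    obtain ⟨a, ha, han⟩ := hG.exists_split hp5 hpG he heo hM heM hm
    exact ⟨(⟨a, ha⟩, ⟨a⁻¹ * m, (show a⁻¹ * m ∈ M from mul_mem (inv_mem (core_le p M ha)) hm), han⟩),
      Subtype.ext (mul_inv_cancel_left a m)⟩

end MinTwo

namespace MinTwo

variable (hG : MinTwo G) (hp5 : 5 ≤ p) (hpG : p ∣ Nat.card G) {P : Sylow p G} {e : G}
  (he : e ∈ zj P) (heo : orderOf e = p)

include hG hp5 hpG he heo

/-- Other maximal subgroups on `e` with intersecting cores coincide. -/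
theorem eq_of_core_inf_ne_bot : ∀ (n : ℕ) {M M' : Subgroup G}, IsOther p M → e ∈ M →
    IsOther p M' → e ∈ M' → n + Nat.card ↥(core p M ⊓ core p M') = Nat.card G →
    core p M ⊓ core p M' ≠ ⊥ → M = M' := by
  intro n
  induction n using Nat.strong_induction_on with
  | _ n ih =>
  intro M M' hM heM hM' heM' hn hne
  set D := core p M ⊓ core p M' with hD
  have heD : e ∈ normalizer (D : Set G) :=
    Cfsg.Lib.Coprime.le_normalizer_inf inf_le_left inf_le_right
      (show e ∈ normalizer (core p M : Set G) ⊓ normalizer (core p M' : Set G) from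
        ⟨le_normalizer_core p M heM, le_normalizer_core p M' heM'⟩)
  have hDtop : D ≠ ⊤ := fun h => hM.1.1 (top_le_iff.1 (h ▸ inf_le_left.trans (core_le p M)))
  obtain ⟨M'', hM'', hle⟩ := (eq_top_or_exists_le_coatom (normalizer (D : Set G))).resolve_left
    (hG.normalizer_ne_top hne hDtop)
  have hDc : (Nat.card D).Coprime p :=
    Nat.Coprime.coprime_dvd_left (card_dvd_of_le inf_le_left) (coprime_core p M)
  have hneN : M'' ≠ nzj P := by
    intro h
    obtain ⟨x, hx, hx1⟩ := D.bot_or_exists_ne_one.resolve_left hne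
    refine hx1 (hG.core_fpf hp5 hpG he heo hM heM x hx.1 ?_)
    have hxN : x ∈ nzj P := h ▸ hle (le_normalizer hx)
    have h1 : x * e * x⁻¹ * e⁻¹ ∈ zj P :=
      mul_mem ((mem_normalizer_iff.1 hxN e).1 he) (inv_mem he)
    have h2 : x * e * x⁻¹ * e⁻¹ ∈ D := by
      have := mul_mem hx ((mem_normalizer_iff.1 heD x⁻¹).1 (inv_mem hx))
      simpa [mul_assoc] using this
    have h3 := eq_one_of_pGroup_coprime (isPGroup_zj P) hDc h1 h2
    rw [mul_inv_eq_one, mul_inv_eq_iff_eq_mul] at h3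
    exact h3.symm
  have hO := hG.isOther_of_mem hp5 hpG he heo hM'' (hle heD) hneN
  have key : ∀ N : Subgroup G, IsOther p N → e ∈ N → D ≤ core p N → N = M'' := by
    intro N hN heN hDN
    by_cases hDe : D = core p N
    · have h1 := hle
      rw [hDe, hG.normalizer_core hp5 hpG he heo hN heN] at h1
      exact ((hN.1.le_iff.1 h1).resolve_left hM''.1).symm
    · set X := normalizer (D : Set G) ⊓ core p N with hX
      have heX : e ∈ normalizer (X : Set G) :=
        Cfsg.Lib.Coprime.le_normalizer_inf inf_le_left inf_le_right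
          (show e ∈ normalizer ((normalizer (D : Set G) : Subgroup G) : Set G) ⊓
              normalizer (core p N : Set G) from
            ⟨le_normalizer heD, le_normalizer_core p N heN⟩)
      have hXle : X ≤ core p M'' := hG.le_core_of_fpf hp5 hpG he heo hO (hle heD)
        (inf_le_left.trans hle) heX
        (Nat.Coprime.coprime_dvd_left (card_dvd_of_le inf_le_right) (coprime_core p N))
        (fun x hx => hG.core_fpf hp5 hpG he heo hN heN x hx.2)
      obtain ⟨r, hr, -, hrN⟩ := hG.core_type hp5 hpG he heo hN heN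
      haveI := Fact.mk hr
      haveI := hrN.isNilpotent
      have hlt : D < X := by
        refine lt_of_le_of_ne (le_inf le_normalizer hDN) fun hDX => ?_
        have h1 := Group.normalizerCondition_of_isNilpotent (G := core p N) (D.subgroupOf (core p N))
          (lt_top_iff_ne_top.2 fun h => hDe (le_antisymm hDN (subgroupOf_eq_top.1 h)))
        refine h1.not_ge fun x hx => ?_
        rw [mem_subgroupOf, hDX]
        refine ⟨?_, x.2⟩
        refine mem_normalizer_iff.2 fun z => ⟨fun hz => ?_, fun hz => ?_⟩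
        · exact mem_subgroupOf.1 ((mem_normalizer_iff.1 hx ⟨z, hDN hz⟩).1 (mem_subgroupOf.2 hz))
        · have hz' : z ∈ core p N := by
            have := mul_mem (mul_mem (inv_mem x.2) (hDN hz)) x.2
            simpa [mul_assoc] using this
          exact mem_subgroupOf.1 ((mem_normalizer_iff.1 hx ⟨z, hz'⟩).2 (mem_subgroupOf.2 hz))
      have hlt' : Nat.card D < Nat.card ↥(core p N ⊓ core p M'') :=
        lt_of_lt_of_le
          (lt_of_le_of_ne (card_le_of_le hlt.le)
            fun h => hlt.ne (Subgroup.eq_of_le_of_card_ge hlt.le h.ge))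
          (card_le_of_le (le_inf inf_le_right hXle))
      refine ih (Nat.card G - Nat.card ↥(core p N ⊓ core p M''))
        ?_ hN heN hO (hle heD) (Nat.sub_add_cancel (card_le_card_group _)) ?_
      · have := card_le_card_group (core p N ⊓ core p M'')
        omega
      · exact fun h => hne (le_bot_iff.1 (h ▸ hlt.le.trans (le_inf inf_le_right hXle)))
  rw [key M hM heM inf_le_left, key M' hM' heM' inf_le_right]

theorem core_inf_eq_bot {M M' : Subgroup G} (hM : IsOther p M) (heM : e ∈ M) (hM' : IsOther p M')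
    (heM' : e ∈ M') (hne : M ≠ M') : core p M ⊓ M' = ⊥ := by
  have hle : core p M ⊓ M' ≤ core p M' := by
    refine hG.le_core_of_fpf hp5 hpG he heo hM' heM' inf_le_right ?_
      (Nat.Coprime.coprime_dvd_left (card_dvd_of_le inf_le_left) (coprime_core p M))
      (fun x hx => hG.core_fpf hp5 hpG he heo hM heM x hx.1)
    exact Cfsg.Lib.Coprime.le_normalizer_inf inf_le_left inf_le_right
      (show e ∈ normalizer (core p M : Set G) ⊓ normalizer (M' : Set G) from
        ⟨le_normalizer_core p M heM, le_normalizer heM'⟩)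
  by_contra h
  refine hne (hG.eq_of_core_inf_ne_bot hp5 hpG he heo
    (Nat.card G - Nat.card ↥(core p M ⊓ core p M')) hM heM hM' heM'
    (Nat.sub_add_cancel (card_le_card_group _)) fun h0 => h ?_)
  exact le_bot_iff.1 ((le_inf inf_le_left hle).trans h0.le)

end MinTwo

end Cfsg.Lib.TwoGen
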